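import Cfsg.Agent.H90.D4Two.Code

/-!
Orders, invariance of the bilinear operation, and centralisers, from tables.
-/

set_option autoImplicit false
set_option maxRecDepth 100000

namespace Cfsg.Agent.H90.D4Two

open K8 Matrix

/-- Matrices. -/
abbrev M8 := Matrix (Fin 8) (Fin 8) K8

theorem coef_add_left : ∀ a a' b : K8, coef (a + a') b = coef a b + coef a' b := by decide +kernel

theorem coef_add_right : ∀ a b b' : K8, coef a (b + b') = coef a b + coef a b' := by decide +kernel

theorem coef_mul (c d a b : K8) : coef (c * a) (d * b) = coef c d * coef a b := by simp only [coef]; ring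

attribute [local irreducible] unit enc

variable (TM : Fin 8 → ℕ)

theorem Mv_add_left (u u' v : V) : Mv TM (u + u') v = Mv TM u v + Mv TM u' v := by
  simp [Mv, coef_add_left, add_smul, Finset.sum_add_distrib]

theorem Mv_add_right (u v v' : V) : Mv TM u (v + v') = Mv TM u v + Mv TM u v' := by
  simp [Mv, coef_add_right, add_smul, Finset.sum_add_distrib]

theorem Mv_smul (c d : K8) (u v : V) : Mv TM (c • u) (d • v) = coef c d • Mv TM u v := by
  simp [Mv, coef_mul, mul_smul, Finset.smul_sum]

theorem Mv_sum (f g : Fin 8 → V) : Mv TM (∑ i, f i) (∑ j, g j) = ∑ i, ∑ j, Mv TM (f i) (g j) := by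
  have h := map_sum (AddMonoidHom.mk' (fun u => Mv TM u (∑ j, g j)) (fun a b => Mv_add_left TM a b _)) f
    Finset.univ
  simp only [AddMonoidHom.mk'_apply] at h
  rw [h]
  refine Finset.sum_congr rfl fun i _ => ?_
  exact map_sum (AddMonoidHom.mk' (fun v => Mv TM (f i) v) (Mv_add_right TM _)) g Finset.univ

/-- Compatibility with the bilinear operation. -/
def Pres (A : M8) : Prop := ∀ u v, A *ᵥ Mv TM u v = Mv TM (A *ᵥ u) (A *ᵥ v)

theorem Pres.mul {A B : M8} (hA : Pres TM A) (hB : Pres TM B) : Pres TM (A * B) := fun u v => by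
  simp only [← mulVec_mulVec]; rw [hB, hA]

theorem pres_one : Pres TM 1 := fun u v => by simp

theorem Pres.inv {A B : M8} (hA : Pres TM A) (h : B * A = 1) : Pres TM B := fun u v => by
  have h' : A * B = 1 := mul_eq_one_comm.1 h
  have e := hA (B *ᵥ u) (B *ᵥ v)
  rw [mulVec_mulVec, mulVec_mulVec, h', one_mulVec, one_mulVec] at e
  rw [← e, mulVec_mulVec, h, one_mulVec]

/-- The invariance test. -/
def presC (T : ℕ) : Bool := (List.finRange 8).all fun i => (List.finRange 8).all fun j =>
  app T (mb TM (unit i) (unit j)) == mb TM (app T (unit i)) (app T (unit j))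

theorem pres_of_check (hM : okM TM = true) {T : ℕ} {A : M8} (hA : Rep T A) (h : presC TM T = true) :
    Pres TM A := by
  simp only [presC, List.all_eq_true, List.mem_finRange, true_implies, beq_iff_eq] at h
  have hb : ∀ i j, A *ᵥ Mv TM (Pi.single i 1) (Pi.single j 1) =
      Mv TM (A *ᵥ Pi.single i 1) (A *ᵥ Pi.single j 1) := fun i j => by
    have e := h i j
    rw [hA.unit, hA.unit, mb_enc hM, ← enc_single i, ← enc_single j, mb_enc hM, hA] at e
    exact enc_inj e
  intro u v
  have hs : ∀ w : V, w = ∑ i, w i • (Pi.single i 1 : V) := fun w => by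
    funext k; simp [Finset.sum_apply, Pi.single_apply]
  conv_lhs => rw [hs u, hs v, Mv_sum]
  conv_rhs => rw [hs u, hs v, mulVec_sum, mulVec_sum, Mv_sum]
  simp only [mulVec_sum, mulVec_smul, Mv_smul, hb]

/-- The coordinate vectors. -/
def units : List ℕ := (List.finRange 8).map unit

/-- Codes of eight vectors. -/
def vecs (f : Fin 8 → V) : List ℕ := (List.finRange 8).map fun j => enc (f j)

/-- Iterating a table on the coordinate vectors. -/
def ordGo (T : ℕ) : ℕ → List ℕ → List ℕ → ℕ → Option (ℕ × Bool)
  | 0, _, _, _ => none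
  | fuel + 1, us, sums, k =>
    if us == units then some (k, sums.all (· == 0))
    else ordGo T fuel (us.map (app T)) (List.zipWith (· ^^^ ·) sums us) (k + 1)

/-- The order, and whether the sum of the powers vanishes. -/
def ordInfo (T : ℕ) : Option (ℕ × Bool) := ordGo T 40 (units.map (app T)) units 1

theorem units_eq : units = vecs fun j => Pi.single j 1 := by
  simp [units, vecs, enc_single]

theorem vecs_map {T : ℕ} {A : M8} (h : Rep T A) (f : Fin 8 → V) :
    (vecs f).map (app T) = vecs fun j => A *ᵥ f j := by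
  simp [vecs, List.map_map, Function.comp_def, h _]

theorem vecs_zip (f g : Fin 8 → V) : List.zipWith (· ^^^ ·) (vecs f) (vecs g) = vecs fun j => f j + g j := by
  simp [vecs, List.zipWith_map, List.zipWith_self, enc_add]

theorem vecs_inj {A B : M8} (h : vecs (fun j => A *ᵥ Pi.single j 1) = vecs fun j => B *ᵥ Pi.single j 1) :
    A = B := by
  refine Matrix.ext fun i j => ?_
  have e := enc_inj (List.map_inj_left.1 h j (List.mem_finRange j))
  simpa using congrFun e i

theorem ordGo_spec {T : ℕ} {A : M8} (hA : Rep T A) {m : ℕ} {z : Bool} :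
    ∀ fuel k, 0 < k → (∀ i, 0 < i → i < k → A ^ i ≠ 1) →
      ordGo T fuel (vecs fun j => A ^ k *ᵥ Pi.single j 1)
        (vecs fun j => (∑ i ∈ Finset.range k, A ^ i) *ᵥ Pi.single j 1) k = some (m, z) →
      orderOf A = m ∧ (z = true → ∑ i ∈ Finset.range m, A ^ i = 0) := by
  intro fuel
  induction fuel with
  | zero => intro k _ _ h; simp [ordGo] at h
  | succ fuel ih =>
    intro k hk hne h
    rw [ordGo] at h
    split at h
    · rename_i hu
      rw [beq_iff_eq, units_eq] at hu
      simp only [Option.some.injEq, Prod.mk.injEq] at h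
      obtain ⟨rfl, rfl⟩ := h
      have h1 : A ^ k = 1 := vecs_inj (hu.trans (congrArg vecs (funext fun j => (one_mulVec _).symm)))
      refine ⟨(orderOf_eq_iff hk).2 ⟨h1, fun i hi hi0 => hne i hi0 hi⟩, fun hz => ?_⟩
      refine vecs_inj ?_
      simp only [List.all_eq_true, beq_iff_eq] at hz
      simp only [vecs, zero_mulVec, enc_zero]
      refine List.map_congr_left fun j hj => hz _ ?_
      simp only [vecs, List.mem_map]
      exact ⟨j, hj, rfl⟩
    · rename_i hu
      have hne' : A ^ k ≠ 1 := fun e => hu (by simp only [e, beq_iff_eq, units_eq, one_mulVec])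
      refine ih (k + 1) k.succ_pos (fun i hi0 hi => ?_) ?_
      · rcases Nat.lt_succ_iff_lt_or_eq.1 hi with hi | rfl
        · exact hne i hi0 hi
        · exact hne'
      · rw [vecs_map hA, vecs_zip] at h
        simpa only [Finset.sum_range_succ, add_mulVec, pow_succ', ← mulVec_mulVec] using h

theorem ordInfo_spec {T : ℕ} {A : M8} (hA : Rep T A) {m : ℕ} {z : Bool} (h : ordInfo T = some (m, z)) :
    orderOf A = m ∧ (z = true → ∑ i ∈ Finset.range m, A ^ i = 0) := by
  unfold ordInfo at h
  generalize (40 : ℕ) = fuel at h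
  refine ordGo_spec hA fuel 1 one_pos (fun i h0 h1 => absurd h1 (by omega)) ?_
  rw [units_eq, vecs_map hA] at h
  simpa only [pow_one, Finset.sum_range_one, pow_zero, one_mulVec] using h

/-- The order is small, or the sum of powers vanishes. -/
def goodC (T : ℕ) : Bool :=
  match ordInfo T with
  | some (m, z) => z || [1, 2, 3, 4, 6, 7].contains m
  | none => false

/-- What is needed of an element. -/
def GoodM (A : M8) : Prop :=
  orderOf A ∈ [1, 2, 3, 4, 6, 7] ∨ ∑ i ∈ Finset.range (orderOf A), A ^ i = 0

theorem good_of_check {T : ℕ} {A : M8} (hA : Rep T A) (h : goodC T = true) : GoodM A := by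
  unfold goodC at h
  split at h
  · rename_i m z e
    obtain ⟨h1, h2⟩ := ordInfo_spec hA e
    rw [GoodM, h1]
    rcases Bool.or_eq_true_iff.1 h with hz | hm
    · exact Or.inr (h2 hz)
    · exact Or.inl (List.contains_iff_mem.1 hm)
  · simp at h

/-- All choices from a list of lists. -/
def prodL : List (List ℕ) → List (List ℕ)
  | [] => [[]]
  | l :: ls => l.flatMap fun a => (prodL ls).map (a :: ·)

theorem mem_prodL {β : Type} (s : β → List ℕ) (g : β → ℕ) : ∀ l : List β, (∀ b ∈ l, g b ∈ s b) →
    l.map g ∈ prodL (l.map s)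
  | [], _ => by simp [prodL]
  | b :: l, h => by
    simp only [List.map_cons, prodL, List.mem_flatMap, List.mem_map]
    exact ⟨g b, h b List.mem_cons_self, l.map g,
      mem_prodL s g l fun c hc => h c (List.mem_cons_of_mem _ hc), rfl⟩

/-- The span over the prime field. -/
def xspan : List ℕ → List ℕ
  | [] => [0]
  | b :: r => (xspan r).flatMap fun n => [n, b ^^^ n]

theorem xspan_zero : ∀ l, 0 ∈ xspan l
  | [] => List.mem_cons_self
  | b :: r => List.mem_flatMap.2 ⟨0, xspan_zero r, List.mem_cons_self⟩

theorem xspan_xor : ∀ (l : List ℕ) {m n : ℕ}, m ∈ xspan l → n ∈ xspan l → m ^^^ n ∈ xspan l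
  | [], m, n, hm, hn => by simp_all [xspan]
  | b :: r, m, n, hm, hn => by
    simp only [xspan, List.mem_flatMap, List.mem_cons, List.not_mem_nil, or_false] at hm hn ⊢
    obtain ⟨a, ha, hm⟩ := hm
    obtain ⟨c, hc, hn⟩ := hn
    refine ⟨a ^^^ c, xspan_xor r ha hc, ?_⟩
    rcases hm with rfl | rfl <;> rcases hn with rfl | rfl
    · exact Or.inl rfl
    · right; ac_rfl
    · right; ac_rfl
    · left
      rw [show b ^^^ a ^^^ (b ^^^ c) = (b ^^^ b) ^^^ (a ^^^ c) by ac_rfl, Nat.xor_self, Nat.zero_xor]

/-- The nonzero chunks of a table, combined in all ways. -/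
def cands (R : ℕ) : List (Fin 8) → List ℕ
  | [] => [0]
  | i :: l =>
    if ((List.range 8).all fun a => getP 24 R (8 * i.val + a) == 0) then cands R l
    else (List.range 8).flatMap fun a => (cands R l).map fun z => getP 24 R (8 * i.val + a) ^^^ z

theorem mem_cands (R : ℕ) (d : Fin 8 → ℕ) (hd : ∀ i, d i < 8) : ∀ l : List (Fin 8),
    l.foldr (fun i z => getP 24 R (8 * i.val + d i) ^^^ z) 0 ∈ cands R l
  | [] => List.mem_cons_self
  | i :: l => by
    rw [cands, List.foldr_cons]
    split
    · rename_i h
      rw [beq_iff_eq.1 (List.all_eq_true.1 h _ (List.mem_range.2 (hd i))), Nat.zero_xor]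
      exact mem_cands R d hd l
    · exact List.mem_flatMap.2 ⟨d i, List.mem_range.2 (hd i), List.mem_map.2 ⟨_, mem_cands R d hd l, rfl⟩⟩

theorem app_mem_cands (R n : ℕ) : app R n ∈ cands R (List.finRange 8) := by
  have h := mem_cands R (fun i => n >>> (3 * i.val) % 8) (fun i => Nat.mod_lt _ (by norm_num)) (List.finRange 8)
  refine Eq.subst (motive := fun a => a ∈ cands R (List.finRange 8)) ?_ h
  simp [app_eq, xs, List.finRange, List.ofFn_succ, Nat.xor_assoc]

/-- The coordinates of one vector in a spanning list. -/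
def comb (a l : List ℕ) : ℕ := (List.zipWith smulN a l).foldr (· ^^^ ·) 0

/-- The image of a code under a matrix. -/
def img (A : M8) (n : ℕ) : ℕ := enc (A *ᵥ dec n)

theorem comb_lt : ∀ a l : List ℕ, comb a l < 2 ^ 24
  | [], _ => by simp [comb]
  | _ :: _, [] => by simp [comb]
  | a :: as, b :: l => Nat.xor_lt_two_pow (enc_lt _) (comb_lt as l)

theorem img_xor (A : M8) {m n : ℕ} (hm : m < 2 ^ 24) (hn : n < 2 ^ 24) :
    img A (m ^^^ n) = img A m ^^^ img A n := by rw [img, dec_xor hm hn, mulVec_add, enc_add]; rfl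

theorem img_comb (A : M8) : ∀ a l : List ℕ, img A (comb a l) = comb a (l.map (img A))
  | [], l => by simp [comb, img, dec_zero, enc_zero]
  | _ :: _, [] => by simp [comb, img, dec_zero, enc_zero]
  | a :: as, b :: l => by
    show img A (smulN a b ^^^ comb as l) = smulN a (img A b) ^^^ comb as (l.map (img A))
    rw [img_xor A (show smulN a b < 2 ^ 24 from enc_lt _) (comb_lt as l), img_comb A as l]
    simp [img, smulN, dec_enc, mulVec_smul]

theorem img_eq_app {T : ℕ} {A : M8} (hA : Rep T A) {n : ℕ} (hn : n < 2 ^ 24) : app T n = img A n := by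
  conv_lhs => rw [← enc_dec hn]
  exact hA _

end Cfsg.Agent.H90.D4Two
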