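import Cfsg.Agent.H90.D4Two.Alg

/-!
The centraliser of one element among the matrices preserving the bilinear operation.
-/

set_option autoImplicit false
set_option maxRecDepth 100000

namespace Cfsg.Agent.H90.D4Two

open K8 Matrix

attribute [local irreducible] unit enc

variable (TM : Fin 8 → ℕ)

/-- An operation: apply the element, the left operation by the idempotent, or the product. -/
abbrev Op := Fin 3 × ℕ × ℕ

/-- The data. -/
structure Dat where
  /-- The order. -/
  p : ℕ
  /-- The element. -/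
  x : ℕ
  /-- A projection on the fixed points. -/
  R : ℕ
  /-- A fixed idempotent. -/
  f : ℕ
  /-- The fixed idempotents. -/
  ids : List ℕ
  /-- An element for each, with its inverse. -/
  cst : List (ℕ × ℕ)
  /-- A basis over the prime field of the vectors fixed by the left operation twice. -/
  B : List ℕ
  /-- The seeds. -/
  seeds : List ℕ
  /-- The program. -/
  src : List Op
  /-- The relations. -/
  rel : List (Op × List ℕ)
  /-- The stabiliser of the idempotent. -/
  st : List ℕ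
  /-- The coordinate vectors in the programme's values. -/
  coords : List (List ℕ)

variable (D : Dat)

/-- Left operation by the idempotent, twice. -/
def Dat.S (n : ℕ) : ℕ := mb TM D.f (mb TM D.f n)

/-- A projection on the fixed points of `S`. -/
def Dat.proj (n : ℕ) : ℕ := n ^^^ D.S TM n ^^^ D.S TM (D.S TM n)

/-- Invariants of a vector. -/
def Dat.inv (n : ℕ) : List Bool :=
  [n == 0, app D.x n == n, mb TM D.f n == n, mb TM n n == n, mb TM n n == 0,
    mb TM n (app D.x n) == 0, mb TM n n == app D.x n, mb TM n D.f == n]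

/-- The value of an operation. -/
def Dat.op (o : Op) (im : List ℕ) : ℕ :=
  match o.1 with
  | 0 => app D.x (im.getD o.2.1 0)
  | 1 => mb TM D.f (im.getD o.2.1 0)
  | _ => mb TM (im.getD o.2.1 0) (im.getD o.2.2 0)

/-- The values of the program. -/
def Dat.run (ts : List ℕ) : List ℕ := D.src.foldl (fun im o => im ++ [D.op TM o im]) (D.f :: ts)

/-- The relations hold. -/
def Dat.relOK (im : List ℕ) : Bool :=
  D.rel.all fun r => D.op TM r.1 im == (r.2.map fun k => im.getD k 0).foldr (· ^^^ ·) 0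

/-- The iterate of the element. -/
def powApp (T : ℕ) : ℕ → ℕ → ℕ
  | 0, n => n
  | k + 1, n => app T (powApp T k n)

/-- The sum of the iterates. -/
def sumApp (T : ℕ) : ℕ → ℕ → ℕ
  | 0, _ => 0
  | k + 1, n => sumApp T k n ^^^ powApp T k n

/-- The checks on the element and the idempotent. -/
def Dat.baseOK : Bool :=
  linT D.x && linT D.R && (D.p % 2 == 1) && app D.x D.f == D.f && mb TM D.f D.f == D.f &&
    decide (D.f ≠ 0) &&
    ((List.finRange 8).all fun j => powApp D.x D.p (unit j) == unit j &&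
      app D.R (sumApp D.x D.p (unit j)) == sumApp D.x D.p (unit j))

/-- The check on the list of idempotents. -/
def Dat.idsA : Bool :=
  ((cands D.R (List.finRange 8)).filter fun n => n != 0 && mb TM n n == n) == D.ids &&
    (D.cst.map fun c => app c.1 D.f) == D.ids

/-- The check on the representatives. -/
def Dat.cstOK : Bool :=
    D.cst.all fun c => linT c.1 && linT c.2 && presC TM c.1 &&
      (List.finRange 8).all fun j =>
        app c.2 (app c.1 (unit j)) == unit j && app c.1 (app D.x (unit j)) == app D.x (app c.1 (unit j))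

/-- The checks on the span. -/
def Dat.spanOK : Bool :=
  ((List.finRange 8).all fun j => (List.range 8).all fun a =>
    (xspan D.B).contains (D.proj TM (a <<< (3 * j.val)))) &&
    (D.seeds.all fun s => decide (s < 2 ^ 24) && D.S TM s == s) && D.relOK TM (D.run TM D.seeds) &&
    (D.coords.map fun a => comb a (D.run TM D.seeds)) == units

/-- The check on the stabiliser. -/
def Dat.stabOK : Bool :=
  ((prodL (D.seeds.map fun s => (xspan D.B).filter fun n => D.inv TM n == D.inv TM s)).map (D.run TM)).filter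
      (D.relOK TM) == D.st.map (fun s => (D.run TM D.seeds).map (app s)) &&
    D.st.all linT

variable {TM} {D}

theorem img_lt (A : M8) (n : ℕ) : img A n < 2 ^ 24 := enc_lt _

theorem img_zero (A : M8) : img A 0 = 0 := by simp [img, dec_zero, enc_zero]

theorem img_inj {A B : M8} (h : B * A = 1) {m n : ℕ} (hm : m < 2 ^ 24) (hn : n < 2 ^ 24)
    (e : img A m = img A n) : m = n := by
  have e' := congrArg (fun v => B *ᵥ v) (enc_inj e)
  simp only [mulVec_mulVec, h, one_mulVec] at e'
  rw [← enc_dec hm, e', enc_dec hn]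

theorem img_getD (A : M8) (im : List ℕ) (k : ℕ) : (im.map (img A)).getD k 0 = img A (im.getD k 0) := by
  rw [List.getD_eq_getElem?_getD, List.getD_eq_getElem?_getD, List.getElem?_map]
  cases im[k]? <;> simp [img_zero]

theorem getD_lt {im : List ℕ} (h : ∀ a ∈ im, a < 2 ^ 24) (k : ℕ) : im.getD k 0 < 2 ^ 24 := by
  rw [List.getD_eq_getElem?_getD]
  cases e : im[k]? with
  | none => simp
  | some a => simpa using h a (List.mem_of_getElem? e)

theorem foldr_xor_lt : ∀ {l : List ℕ}, (∀ a ∈ l, a < 2 ^ 24) → l.foldr (· ^^^ ·) 0 < 2 ^ 24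
  | [], _ => by simp
  | a :: l, h => Nat.xor_lt_two_pow (h a List.mem_cons_self)
      (foldr_xor_lt fun b hb => h b (List.mem_cons_of_mem _ hb))

theorem img_fold (A : M8) : ∀ {l : List ℕ}, (∀ a ∈ l, a < 2 ^ 24) →
    (l.map (img A)).foldr (· ^^^ ·) 0 = img A (l.foldr (· ^^^ ·) 0)
  | [], _ => by simp [img_zero]
  | a :: l, h => by
    rw [List.map_cons, List.foldr_cons, List.foldr_cons,
      img_fold A (fun b hb => h b (List.mem_cons_of_mem _ hb)),
      img_xor A (h a List.mem_cons_self) (foldr_xor_lt fun b hb => h b (List.mem_cons_of_mem _ hb))]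

theorem sum_span (D : Dat) (l : List ℕ) : ∀ f : Fin 8 → ℕ, (∀ j, f j ∈ xspan l) → xs f ∈ xspan l := by
  intro f h
  exact xspan_xor _ (xspan_xor _ (xspan_xor _ (xspan_xor _ (xspan_xor _ (xspan_xor _ (xspan_xor _
    (h 0) (h 1)) (h 2)) (h 3)) (h 4)) (h 5)) (h 6)) (h 7)

theorem powApp_img {T : ℕ} {A : M8} (hA : Rep T A) : ∀ k {n : ℕ}, n < 2 ^ 24 → powApp T k n = img (A ^ k) n
  | 0, n, h => by simp [powApp, img, enc_dec h]
  | k + 1, n, h => by
    rw [powApp, powApp_img hA k h, img, hA, img, mulVec_mulVec, pow_succ']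

theorem sumApp_img {T : ℕ} {A : M8} (hA : Rep T A) : ∀ k {n : ℕ}, n < 2 ^ 24 →
    sumApp T k n = img (∑ i ∈ Finset.range k, A ^ i) n
  | 0, n, h => by simp [sumApp, img, enc_zero]
  | k + 1, n, h => by
    rw [sumApp, sumApp_img hA k h, powApp_img hA k h, img, img, img, ← enc_add, ← add_mulVec,
      Finset.sum_range_succ]

theorem unit_lt (j : Fin 8) : unit j < 2 ^ 24 := by rw [← enc_single]; exact enc_lt _

theorem img_unit (A : M8) (j : Fin 8) : img A (unit j) = enc (A *ᵥ Pi.single j 1) := by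
  rw [img, ← enc_single, dec_enc]

theorem eq_of_img_unit {A B : M8} (h : ∀ j, img A (unit j) = img B (unit j)) : A = B := by
  refine Matrix.ext fun i j => ?_
  have e := h j
  rw [img_unit, img_unit] at e
  simpa using congrFun (enc_inj e) i

theorem op_img (hM : okM TM = true) {X A : M8} (hX : Rep D.x X) (hA : Pres TM A) (hc : A * X = X * A)
    (hf : img A D.f = D.f) (hf' : D.f < 2 ^ 24) (o : Op) {im : List ℕ} (him : ∀ a ∈ im, a < 2 ^ 24) :
    D.op TM o (im.map (img A)) = img A (D.op TM o im) := by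
  have hm : ∀ a b, a < 2 ^ 24 → b < 2 ^ 24 → mb TM (img A a) (img A b) = img A (mb TM a b) := by
    intro a b ha hb
    conv_rhs => rw [← enc_dec ha, ← enc_dec hb, mb_enc hM, img, dec_enc]
    rw [img, img, mb_enc hM, hA]
  simp only [Dat.op, img_getD]
  split
  · have ha := getD_lt him o.2.1
    rw [img_eq_app hX (img_lt A _), img_eq_app hX ha, img, img, img, img, dec_enc, dec_enc,
      mulVec_mulVec, mulVec_mulVec, hc]
  · conv_lhs => rw [← hf]
    exact hm _ _ hf' (getD_lt him _)
  · exact hm _ _ (getD_lt him _) (getD_lt him _)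

theorem op_lt (o : Op) (im : List ℕ) : D.op TM o im < 2 ^ 24 := by
  simp only [Dat.op, mb]
  split <;> exact app_lt _ _

theorem run_spec (hM : okM TM = true) {X A : M8} (hX : Rep D.x X) (hA : Pres TM A) (hc : A * X = X * A)
    (hf : img A D.f = D.f) (hf' : D.f < 2 ^ 24) (ts : List ℕ) (hts : ∀ a ∈ ts, a < 2 ^ 24) :
    D.run TM (ts.map (img A)) = (D.run TM ts).map (img A) ∧ ∀ a ∈ D.run TM ts, a < 2 ^ 24 := by
  have gen : ∀ (s : List Op) (im : List ℕ), (∀ a ∈ im, a < 2 ^ 24) →
      s.foldl (fun im o => im ++ [D.op TM o im]) (im.map (img A)) =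
        (s.foldl (fun im o => im ++ [D.op TM o im]) im).map (img A) ∧
      ∀ a ∈ s.foldl (fun im o => im ++ [D.op TM o im]) im, a < 2 ^ 24 := by
    intro s
    induction s with
    | nil => exact fun im him => ⟨rfl, him⟩
    | cons o s ih =>
      intro im him
      simp only [List.foldl_cons, op_img hM hX hA hc hf hf' o him]
      rw [show im.map (img A) ++ [img A (D.op TM o im)] = (im ++ [D.op TM o im]).map (img A) by simp]
      refine ih _ fun a ha => ?_
      rcases List.mem_append.1 ha with ha | ha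
      · exact him a ha
      · simp only [List.mem_singleton] at ha
        exact ha ▸ op_lt _ _
  have h := gen D.src (D.f :: ts) (List.forall_mem_cons.2 ⟨hf', hts⟩)
  rw [List.map_cons, hf] at h
  exact h

theorem inv_img (hM : okM TM = true) {X A B : M8} (hX : Rep D.x X) (hA : Pres TM A) (hc : A * X = X * A)
    (hB : B * A = 1) (hf : img A D.f = D.f) (hf' : D.f < 2 ^ 24) {n : ℕ} (hn : n < 2 ^ 24) :
    D.inv TM (img A n) = D.inv TM n := by
  have h1 : app D.x (img A n) = img A (app D.x n) := by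
    rw [img_eq_app hX (img_lt A _), img_eq_app hX hn, img, img, img, img, dec_enc, dec_enc,
      mulVec_mulVec, mulVec_mulVec, hc]
  have hm : ∀ a b, a < 2 ^ 24 → b < 2 ^ 24 → mb TM (img A a) (img A b) = img A (mb TM a b) := by
    intro a b ha hb
    conv_rhs => rw [← enc_dec ha, ← enc_dec hb, mb_enc hM, img, dec_enc]
    rw [img, img, mb_enc hM, hA]
  have e : ∀ a b, a < 2 ^ 24 → b < 2 ^ 24 → (img A a == img A b) = (a == b) := fun a b ha hb => by
    rw [Bool.eq_iff_iff, beq_iff_eq, beq_iff_eq]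
    exact ⟨img_inj hB ha hb, fun h => h ▸ rfl⟩
  have h0 : (0 : ℕ) < 2 ^ 24 := Nat.two_pow_pos 24
  have hx : app D.x n < 2 ^ 24 := app_lt _ _
  have hmb : ∀ a b, mb TM a b < 2 ^ 24 := fun a b => app_lt _ _
  have h2 := hm D.f n hf' hn
  have h3 := hm n n hn hn
  have h4 := hm n (app D.x n) hn hx
  have h5 := hm n D.f hn hf'
  rw [hf] at h2 h5
  simp only [Dat.inv, h1, h2, h3, h4, h5]
  conv_lhs => rw [← img_zero A]
  simp only [e _ _ hn h0, e _ _ hx hn, e _ _ (hmb _ _) hn, e _ _ (hmb _ _) h0, e _ _ (hmb _ _) hx]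

theorem map_xs (g : ℕ → ℕ) (hg : ∀ a b, a < 2 ^ 24 → b < 2 ^ 24 → g (a ^^^ b) = g a ^^^ g b)
    (f : Fin 8 → ℕ) (hf : ∀ j, f j < 2 ^ 24) : g (xs f) = xs fun j => g (f j) := by
  have h1 := Nat.xor_lt_two_pow (hf 0) (hf 1)
  have h2 := Nat.xor_lt_two_pow h1 (hf 2)
  have h3 := Nat.xor_lt_two_pow h2 (hf 3)
  have h4 := Nat.xor_lt_two_pow h3 (hf 4)
  have h5 := Nat.xor_lt_two_pow h4 (hf 5)
  have h6 := Nat.xor_lt_two_pow h5 (hf 6)
  unfold xs
  rw [hg _ _ h6 (hf 7), hg _ _ h5 (hf 6), hg _ _ h4 (hf 5), hg _ _ h3 (hf 4), hg _ _ h2 (hf 3),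
    hg _ _ h1 (hf 2), hg _ _ (hf 0) (hf 1)]

theorem mem_ids {X : M8} (hX : Rep D.x X) (hb : D.baseOK TM = true) (hi : D.idsA TM = true) {t : ℕ}
    (ht : t < 2 ^ 24) (hfix : app D.x t = t) (hid : mb TM t t = t) (h0 : t ≠ 0) : t ∈ D.ids := by
  simp only [Dat.baseOK, Bool.and_eq_true, beq_iff_eq, decide_eq_true_eq, List.all_eq_true,
    List.mem_finRange, true_implies] at hb
  simp only [Dat.idsA, Bool.and_eq_true, beq_iff_eq] at hi
  obtain ⟨⟨⟨⟨⟨⟨-, hR⟩, hp⟩, -⟩, -⟩, -⟩, hj⟩ := hb
  rw [← hi.1, List.mem_filter]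
  refine ⟨?_, by simp [h0, hid]⟩
  have hRR := rep_matT hR
  set P : M8 := ∑ i ∈ Finset.range D.p, X ^ i with hP
  have hPR : matT D.R * P = P := eq_of_img_unit fun j => by
    have e := (hj j).2
    rw [sumApp_img hX _ (unit_lt j), ← hP, img_eq_app hRR (img_lt _ _)] at e
    rw [← e, img, img, img, dec_enc, mulVec_mulVec]
  have hXt : X *ᵥ dec t = dec t := enc_inj (by rw [enc_dec ht, ← hX, enc_dec ht, hfix])
  have hXi : ∀ i, (X ^ i) *ᵥ dec t = dec t := fun i => by
    induction i with
    | zero => simp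
    | succ i ih => rw [pow_succ, ← mulVec_mulVec, hXt, ih]
  have hPt : P *ᵥ dec t = dec t := by
    rw [hP, sum_mulVec]
    simp only [hXi, Finset.sum_const, Finset.card_range]
    rw [← Nat.cast_smul_eq_nsmul K8, CharTwo.natCast_eq_mod, hp, Nat.cast_one, one_smul]
  have e : matT D.R *ᵥ dec t = dec t := by
    conv_lhs => rw [← hPt, mulVec_mulVec, hPR, hPt]
  have h := app_mem_cands D.R t
  rwa [img_eq_app hRR ht, img, e, enc_dec ht] at h

theorem proj_mem (hM : okM TM = true) (hf' : D.f < 2 ^ 24) (hs : D.spanOK TM = true) {t : ℕ}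
    (ht : t < 2 ^ 24) (hfix : D.S TM t = t) : t ∈ xspan D.B := by
  simp only [Dat.spanOK, Bool.and_eq_true, List.all_eq_true, List.mem_finRange, true_implies,
    List.mem_range, List.contains_iff_mem] at hs
  obtain ⟨⟨⟨hu, -⟩, -⟩, -⟩ := hs
  have hSadd : ∀ a b, a < 2 ^ 24 → b < 2 ^ 24 → D.S TM (a ^^^ b) = D.S TM a ^^^ D.S TM b := by
    have h1 : ∀ a b, a < 2 ^ 24 → b < 2 ^ 24 → mb TM D.f (a ^^^ b) = mb TM D.f a ^^^ mb TM D.f b := by
      intro a b ha hb
      rw [← enc_dec hf', ← enc_dec ha, ← enc_dec hb, ← enc_add, mb_enc hM, mb_enc hM, mb_enc hM,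
        ← enc_add, Mv_add_right]
    intro a b ha hb
    rw [Dat.S, h1 a b ha hb,
      h1 (mb TM D.f a) (mb TM D.f b) (show mb TM D.f a < 2 ^ 24 from app_lt _ _) (show mb TM D.f b < 2 ^ 24 from app_lt _ _)]
    rfl
  have hS : ∀ a, D.S TM a < 2 ^ 24 := fun a => app_lt _ _
  have hpadd : ∀ a b, a < 2 ^ 24 → b < 2 ^ 24 → D.proj TM (a ^^^ b) = D.proj TM a ^^^ D.proj TM b := by
    intro a b ha hb
    simp only [Dat.proj, hSadd a b ha hb, hSadd _ _ (hS a) (hS b)]
    ac_rfl
  have hd : t = xs fun j => (t >>> (3 * j.val) % 8) <<< (3 * j.val) := by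
    refine enc_dec ht ▸ ?_
    have e := enc_sum fun j => Pi.single j (dec t j)
    rw [Finset.univ_sum_single] at e
    refine e.trans (congrArg xs (funext fun j => ?_))
    rw [enc_dec ht]
    exact (show ∀ (j : Fin 8) (a : Fin 8), enc (Pi.single j (⟨a⟩ : K8)) = a.val <<< (3 * j.val) by
      decide +kernel) j _
  have hlt : ∀ j : Fin 8, (t >>> (3 * j.val) % 8) <<< (3 * j.val) < 2 ^ 24 := fun j =>
    (show ∀ (j : Fin 8) (a : Fin 8), a.val <<< (3 * j.val) < 2 ^ 24 by decide +kernel) j
      ⟨_, Nat.mod_lt _ (by norm_num)⟩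
  have e : D.proj TM t = t := by simp [Dat.proj, hfix]
  rw [← e, hd, map_xs _ hpadd _ hlt]
  exact sum_span D D.B _ fun j => hu j _ (Nat.mod_lt _ (by norm_num))

/-- The matrices commuting with the element and preserving the operation are listed. -/
theorem cent_spec (hM : okM TM = true) {X : M8} (hX : Rep D.x X) (hb : D.baseOK TM = true)
    (hi : D.idsA TM = true) (hcs : D.cstOK TM = true) (hs : D.spanOK TM = true) (hst : D.stabOK TM = true) {A B : M8}
    (hBA : B * A = 1) (hA : Pres TM A) (hAX : A * X = X * A) :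
    ∃ c ∈ D.cst, ∃ s ∈ D.st, Rep (mulC c.1 s) A := by
  have hb' := hb
  have hi' := hi
  have hs' := hs
  simp only [Dat.baseOK, Bool.and_eq_true, beq_iff_eq, decide_eq_true_eq] at hb'
  simp only [Dat.idsA, Bool.and_eq_true, beq_iff_eq] at hi'
  simp only [Dat.spanOK, Bool.and_eq_true, beq_iff_eq, List.all_eq_true, decide_eq_true_eq] at hs'
  simp only [Dat.stabOK, Bool.and_eq_true, beq_iff_eq, List.all_eq_true] at hst
  obtain ⟨⟨⟨⟨-, hxf⟩, hff⟩, hf0⟩, -⟩ := hb'
  obtain ⟨⟨⟨-, hseed⟩, hrel⟩, hco⟩ := hs'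
  have hf' : D.f < 2 ^ 24 := hxf ▸ app_lt _ _
  have hmb : ∀ {C : M8}, Pres TM C → ∀ a b, a < 2 ^ 24 → b < 2 ^ 24 →
      mb TM (img C a) (img C b) = img C (mb TM a b) := by
    intro C hC a b ha hb
    conv_rhs => rw [← enc_dec ha, ← enc_dec hb, mb_enc hM, img, dec_enc]
    rw [img, img, mb_enc hM, hC]
  have ht : img A D.f ∈ D.ids := by
    refine mem_ids hX hb hi (img_lt _ _) ?_ ?_ ?_
    · rw [img_eq_app hX (img_lt _ _)]
      conv_rhs => rw [← hxf, img_eq_app hX hf']
      simp only [img, dec_enc, mulVec_mulVec, hAX]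
    · rw [hmb hA _ _ hf' hf', hff]
    · intro e
      exact hf0 (img_inj hBA hf' (Nat.two_pow_pos 24) (e.trans (img_zero A).symm))
  rw [← hi'.2, List.mem_map] at ht
  obtain ⟨c, hc, hct⟩ := ht
  have hcc := List.all_eq_true.1 hcs c hc
  simp only [Bool.and_eq_true, List.all_eq_true, List.mem_finRange, true_implies, beq_iff_eq] at hcc
  obtain ⟨⟨⟨hl1, hl2⟩, hcp⟩, hcj⟩ := hcc
  have hC := rep_matT hl1
  have hCi := rep_matT hl2
  set C := matT c.1
  set Ci := matT c.2
  have hinv : Ci * C = 1 := eq_of_img_unit fun j => by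
    have e := (hcj j).1
    rw [img_eq_app hC (unit_lt j), img_eq_app hCi (img_lt _ _)] at e
    simp only [img, dec_enc, mulVec_mulVec, one_mulVec, enc_dec (unit_lt j)] at e ⊢
    exact e
  have hCX : C * X = X * C := eq_of_img_unit fun j => by
    have e := (hcj j).2
    rw [img_eq_app hX (unit_lt j), img_eq_app hC (unit_lt j), img_eq_app hC (img_lt _ _),
      img_eq_app hX (img_lt _ _)] at e
    simpa only [img, dec_enc, mulVec_mulVec] using e
  have hinv' : C * Ci = 1 := mul_eq_one_comm.1 hinv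
  have hCiX : Ci * X = X * Ci := by
    calc Ci * X = Ci * X * (C * Ci) := by rw [hinv', mul_one]
      _ = Ci * (C * X) * Ci := by rw [hCX]; simp only [mul_assoc]
      _ = Ci * C * (X * Ci) := by simp only [mul_assoc]
      _ = X * Ci := by rw [hinv, one_mul]
  have hA' : Pres TM (Ci * A) := Pres.mul TM (Pres.inv TM (pres_of_check TM hM hC hcp) hinv) hA
  have hA'X : Ci * A * X = X * (Ci * A) := by rw [mul_assoc, hAX, ← mul_assoc, hCiX, mul_assoc]
  have hA'B : B * C * (Ci * A) = 1 := by rw [← mul_assoc, mul_assoc B, hinv', mul_one, hBA]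
  have hA'f : img (Ci * A) D.f = D.f := by
    rw [img_eq_app hC hf'] at hct
    have e := congrArg (fun v => Ci *ᵥ v) (enc_inj hct)
    simp only [mulVec_mulVec, hinv, one_mulVec] at e
    rw [img, ← e, enc_dec hf']
  have hts : ∀ a ∈ D.seeds, a < 2 ^ 24 := fun a ha => (hseed a ha).1
  obtain ⟨hrun, hlt⟩ := run_spec hM hX hA' hA'X hA'f hf' D.seeds hts
  have hmem : D.seeds.map (img (Ci * A)) ∈
      prodL (D.seeds.map fun s => (xspan D.B).filter fun n => D.inv TM n == D.inv TM s) := by
    refine mem_prodL _ _ _ fun s hs0 => List.mem_filter.2 ⟨?_, ?_⟩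
    · refine proj_mem hM hf' hs (img_lt _ _) ?_
      have e1 : ∀ a, a < 2 ^ 24 → mb TM D.f (img (Ci * A) a) = img (Ci * A) (mb TM D.f a) := by
        intro a ha
        conv_lhs => rw [← hA'f]
        exact hmb hA' _ _ hf' ha
      rw [Dat.S, e1 _ (hts s hs0), e1 _ (show mb TM D.f s < 2 ^ 24 from app_lt _ _)]
      exact congrArg _ (hseed s hs0).2
    · rw [beq_iff_eq]
      exact inv_img hM hX hA' hA'X hA'B hA'f hf' (hts s hs0)
  have hrel' : D.relOK TM (D.run TM (D.seeds.map (img (Ci * A)))) = true := by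
    rw [hrun]
    simp only [Dat.relOK, List.all_eq_true, beq_iff_eq] at hrel ⊢
    intro r hr
    rw [op_img hM hX hA' hA'X hA'f hf' r.1 hlt, hrel r hr,
      ← img_fold _ fun a ha => by
        simp only [List.mem_map] at ha
        obtain ⟨k, -, rfl⟩ := ha
        exact getD_lt hlt k, List.map_map]
    refine congrArg (List.foldr _ 0) (List.map_congr_left fun k _ => ?_)
    exact (img_getD _ _ _).symm
  have hin : D.run TM (D.seeds.map (img (Ci * A))) ∈ D.st.map (fun s => (D.run TM D.seeds).map (app s)) := by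
    rw [← hst.1]
    exact List.mem_filter.2 ⟨List.mem_map.2 ⟨_, hmem, rfl⟩, hrel'⟩
  obtain ⟨s, hsm, hse⟩ := List.mem_map.1 hin
  have hS := rep_matT (hst.2 s hsm)
  have heq : matT s = Ci * A := eq_of_img_unit fun j => by
    have hu : unit j ∈ units := List.mem_map.2 ⟨j, List.mem_finRange j, rfl⟩
    rw [← hco, List.mem_map] at hu
    obtain ⟨a, -, ha⟩ := hu
    rw [← ha, img_comb, img_comb]
    refine congrArg _ ?_
    rw [← hrun, ← hse]
    exact List.map_congr_left fun b hb => (img_eq_app hS (hlt b hb)).symm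
  refine ⟨c, hc, s, hsm, ?_⟩
  have := hC.mul hS
  rwa [heq, ← mul_assoc, hinv', one_mul] at this

end Cfsg.Agent.H90.D4Two
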