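import Cfsg.Agent.H90.D4Two.Rep0

/-!
The checks for the first representative of order three.
-/

set_option autoImplicit false
set_option maxRecDepth 100000
set_option maxHeartbeats 800000
set_option Elab.async false

namespace Cfsg.Agent.H90.D4Two

theorem dat0_base : dat0.baseOK TMv = true := by decide +kernel

theorem dat0_ids : dat0.idsA TMv = true := by decide +kernel

theorem dat0_cst : dat0.cstOK TMv = true := by decide +kernel

theorem dat0_span : dat0.spanOK TMv = true := by decide +kernel

theorem dat0_stab : dat0.stabOK TMv = true := by decide +kernel

end Cfsg.Agent.H90.D4Two
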