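import Cfsg.Agent.H90.D4Two.Rep1

/-!
The checks for the second representative of order three.
-/

set_option autoImplicit false
set_option maxRecDepth 100000
set_option maxHeartbeats 800000
set_option Elab.async false

namespace Cfsg.Agent.H90.D4Two

theorem dat1_base : dat1.baseOK TMv = true := by decide +kernel

theorem dat1_ids : dat1.idsA TMv = true := by decide +kernel

theorem dat1_cst : dat1.cstOK TMv = true := by decide +kernel

theorem dat1_span : dat1.spanOK TMv = true := by decide +kernel

theorem dat1_stab : dat1.stabOK TMv = true := by decide +kernel

end Cfsg.Agent.H90.D4Two
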