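import Cfsg.Agent.H90.D4Two.Rep2

/-!
The checks for the representative of order seven.
-/

set_option autoImplicit false
set_option maxRecDepth 100000
set_option maxHeartbeats 800000
set_option Elab.async false

namespace Cfsg.Agent.H90.D4Two

theorem dat2_base : dat2.baseOK TMv = true := by decide +kernel

theorem dat2_ids : dat2.idsA TMv = true := by decide +kernel

theorem dat2_cst : dat2.cstOK TMv = true := by decide +kernel

theorem dat2_span : dat2.spanOK TMv = true := by decide +kernel

theorem dat2_stab : dat2.stabOK TMv = true := by decide +kernel

theorem dat2_good : (dat2.cst.all fun c => dat2.st.all fun s => goodC (mulC c.1 s)) = true := by decide +kernel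

end Cfsg.Agent.H90.D4Two
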