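import Cfsg.Agent.H90.D4Two.SylData

/-!
The checks on the tables, the generators and the listed subgroups.
-/

set_option autoImplicit false
set_option maxRecDepth 100000
set_option maxHeartbeats 800000
set_option Elab.async false

namespace Cfsg.Agent.H90.D4Two

theorem okM_TMv : okM TMv = true := by decide +kernel

theorem genC_pres : (genC.all fun T => presC TMv T) = true := by decide +kernel

theorem genC_words : (all20.map wordC == genC) = true := by decide +kernel

theorem ord_words : (ordWords.all fun q => (ordInfo (wordT q.2)).map Prod.fst == some q.1) = true := by decide +kernel

theorem syl3_list : syl3.listOK = true := by decide +kernel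

theorem syl3_cert : syl3.certOK reps = true := by decide +kernel

theorem syl7_list : syl7.listOK = true := by decide +kernel

theorem syl7_cert : syl7.certOK reps = true := by decide +kernel

theorem syl13_list : syl13.listOK = true := by decide +kernel

theorem syl13_cert : syl13.certOK reps = true := by decide +kernel

end Cfsg.Agent.H90.D4Two
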