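import Mathlib

/-!
Vectors of `K₈^8` as numbers, linear maps and one bilinear operation as packed tables.
-/

set_option autoImplicit false
set_option maxRecDepth 100000

namespace Cfsg.Agent.H90.D4Two

/-- The table of products in the field with eight elements, three bits for each entry. -/
def mulTab : ℕ :=
  2821848294356612419217921029917578219971947684264937521152

/-- The product of two codes. -/
def mulN (a b : ℕ) : ℕ := mulTab >>> (3 * (8 * a + b)) % 8

/-- The field with eight elements. -/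
structure K8 where
  /-- The code. -/
  n : Fin 8
  deriving DecidableEq

namespace K8

/-- The element with a given code. -/
def ofN (a : ℕ) : K8 := ⟨⟨a % 8, Nat.mod_lt _ (by norm_num)⟩⟩

instance : Fintype K8 := Fintype.ofEquiv (Fin 8) ⟨K8.mk, K8.n, fun _ => rfl, fun _ => rfl⟩

instance : Zero K8 := ⟨⟨0⟩⟩
instance : One K8 := ⟨⟨1⟩⟩
instance : Add K8 := ⟨fun a b => ofN (a.n.val ^^^ b.n.val)⟩
instance : Mul K8 := ⟨fun a b => ofN (mulN a.n.val b.n.val)⟩
instance : Neg K8 := ⟨id⟩
instance : Inv K8 := ⟨fun a => a * a * (a * a) * (a * a)⟩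

instance : Field K8 where
  add_assoc := by decide +kernel
  zero_add := by decide +kernel
  add_zero := by decide +kernel
  add_comm := by decide +kernel
  neg_add_cancel := by decide +kernel
  mul_assoc := by decide +kernel
  one_mul := by decide +kernel
  mul_one := by decide +kernel
  mul_comm := by decide +kernel
  zero_mul := by decide +kernel
  mul_zero := by decide +kernel
  left_distrib := by decide +kernel
  right_distrib := by decide +kernel
  exists_pair_ne := ⟨0, 1, by decide⟩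
  mul_inv_cancel := by decide +kernel
  inv_zero := by decide +kernel
  nsmul := nsmulRec
  zsmul := zsmulRec
  nnqsmul := _
  nnqsmul_def := fun _ _ => rfl
  qsmul := _
  qsmul_def := fun _ _ => rfl

theorem card_eq : Fintype.card K8 = 8 := rfl

instance : CharP K8 2 := CharTwo.of_one_ne_zero_of_two_eq_zero (by decide +kernel) (by decide +kernel)

theorem add_n (a b : K8) : (a + b).n.val = a.n.val ^^^ b.n.val := by
  show (a.n.val ^^^ b.n.val) % 8 = _
  exact Nat.mod_eq_of_lt (Nat.xor_lt_two_pow (n := 3) a.n.isLt b.n.isLt)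

theorem ofN_n (a : K8) : ofN a.n.val = a := by
  revert a; decide +kernel

end K8

open K8

/-- A vector. -/
abbrev V := Fin 8 → K8

/-- The code of a vector. -/
def enc (v : V) : ℕ :=
  (v 0).n.val + 8 * ((v 1).n.val + 8 * ((v 2).n.val + 8 * ((v 3).n.val + 8 * ((v 4).n.val +
    8 * ((v 5).n.val + 8 * ((v 6).n.val + 8 * (v 7).n.val))))))

/-- The vector of a code. -/
def dec (N : ℕ) : V := fun j => ofN (N >>> (3 * j.val))

theorem digit_enc (v : V) (j : Fin 8) : enc v >>> (3 * j.val) % 8 = (v j).n.val := by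
  have := (v 0).n.isLt
  have := (v 1).n.isLt
  have := (v 2).n.isLt
  have := (v 3).n.isLt
  have := (v 4).n.isLt
  have := (v 5).n.isLt
  have := (v 6).n.isLt
  have := (v 7).n.isLt
  rw [Nat.shiftRight_eq_div_pow]
  fin_cases j <;> simp [enc] <;> omega

theorem dec_enc (v : V) : dec (enc v) = v := by
  funext j
  rw [← ofN_n (v j), ← digit_enc v j]
  exact congrArg K8.mk (Fin.ext (Nat.mod_mod _ _).symm)

theorem enc_inj {u v : V} (h : enc u = enc v) : u = v := by rw [← dec_enc u, h, dec_enc]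

theorem enc_dec {N : ℕ} (h : N < 2 ^ 24) : enc (dec N) = N := by
  simp only [enc, dec, ofN, Nat.shiftRight_eq_div_pow]
  norm_num at h ⊢
  omega

theorem digit_xor {a b x y : ℕ} (ha : a < 8) (hb : b < 8) :
    (a + 8 * x) ^^^ (b + 8 * y) = (a ^^^ b) + 8 * (x ^^^ y) := by
  have h1 := Nat.xor_mod_two_pow (a := a + 8 * x) (b := b + 8 * y) (n := 3)
  have h2 := Nat.xor_div_two_pow (a := a + 8 * x) (b := b + 8 * y) (n := 3)
  rw [show (a + 8 * x) % 2 ^ 3 = a by omega, show (b + 8 * y) % 2 ^ 3 = b by omega] at h1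
  rw [show (a + 8 * x) / 2 ^ 3 = x by omega, show (b + 8 * y) / 2 ^ 3 = y by omega] at h2
  omega

theorem enc_add (u v : V) : enc (u + v) = enc u ^^^ enc v := by
  simp only [enc, Pi.add_apply, K8.add_n]
  rw [digit_xor (u 0).n.isLt (v 0).n.isLt, digit_xor (u 1).n.isLt (v 1).n.isLt,
    digit_xor (u 2).n.isLt (v 2).n.isLt, digit_xor (u 3).n.isLt (v 3).n.isLt,
    digit_xor (u 4).n.isLt (v 4).n.isLt, digit_xor (u 5).n.isLt (v 5).n.isLt,
    digit_xor (u 6).n.isLt (v 6).n.isLt]

theorem enc_zero : enc 0 = 0 := rfl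

theorem dec_zero : dec 0 = 0 := dec_enc 0

theorem dec_xor {a b : ℕ} (ha : a < 2 ^ 24) (hb : b < 2 ^ 24) : dec (a ^^^ b) = dec a + dec b :=
  enc_inj (by rw [enc_add, enc_dec (Nat.xor_lt_two_pow ha hb), enc_dec ha, enc_dec hb])

theorem enc_lt (v : V) : enc v < 2 ^ 24 := by
  have := (v 0).n.isLt
  have := (v 1).n.isLt
  have := (v 2).n.isLt
  have := (v 3).n.isLt
  have := (v 4).n.isLt
  have := (v 5).n.isLt
  have := (v 6).n.isLt
  have := (v 7).n.isLt
  simp only [enc]
  omega

/-- An entry of a packed table. -/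
def getP (w P i : ℕ) : ℕ := P >>> (w * i) % 2 ^ w

theorem getP_lt (w P i : ℕ) : getP w P i < 2 ^ w := Nat.mod_lt _ (Nat.two_pow_pos w)

theorem getP_xor (w P Q i : ℕ) : getP w (P ^^^ Q) i = getP w P i ^^^ getP w Q i := by
  rw [getP, Nat.shiftRight_xor_distrib, Nat.xor_mod_two_pow]; rfl

theorem getP_zero (w i : ℕ) : getP w 0 i = 0 := by simp [getP]

/-- A packed table. -/
def packP (w : ℕ) (l : List ℕ) : ℕ := l.foldr (fun x acc => x + acc <<< w) 0

theorem getP_pack (w : ℕ) : ∀ (l : List ℕ), (∀ x ∈ l, x < 2 ^ w) → ∀ i, getP w (packP w l) i = l.getD i 0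
  | [], _, i => by simp [packP, getP]
  | x :: l, h, i => by
    have hx : x < 2 ^ w := h x List.mem_cons_self
    cases i with
    | zero =>
      simp [packP, getP, Nat.shiftLeft_eq, Nat.mod_eq_of_lt hx]
    | succ i =>
      have ih := getP_pack w l (fun y hy => h y (List.mem_cons_of_mem _ hy)) i
      rw [List.getD_cons_succ, ← ih]
      show (x + packP w l <<< w) >>> (w * (i + 1)) % 2 ^ w = _
      rw [show w * (i + 1) = w + w * i by ring, Nat.shiftRight_add, Nat.shiftRight_eq_div_pow (x + _),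
        Nat.shiftLeft_eq, Nat.add_mul_div_right _ _ (Nat.two_pow_pos w), Nat.div_eq_of_lt hx, zero_add]
      rfl

/-- The exclusive or of eight numbers. -/
def xs (f : Fin 8 → ℕ) : ℕ :=
  f 0 ^^^ f 1 ^^^ f 2 ^^^ f 3 ^^^ f 4 ^^^ f 5 ^^^ f 6 ^^^ f 7

theorem enc_sum (f : Fin 8 → V) : enc (∑ j, f j) = xs fun j => enc (f j) := by
  rw [Fin.sum_univ_eight]; simp only [enc_add, xs]

/-- An entry of a table of vectors, written with the primitive operations. -/
def getT (T i : ℕ) : ℕ := Nat.mod (Nat.shiftRight T (Nat.mul 24 i)) 16777216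

theorem getT_eq (T i : ℕ) : getT T i = getP 24 T i := rfl

/-- The value of a table at a code. -/
def app (T n : ℕ) : ℕ :=
  Nat.xor (Nat.xor (Nat.xor (Nat.xor (Nat.xor (Nat.xor (Nat.xor (getT T (Nat.mod n 8))
    (getT T (Nat.add 8 (Nat.mod (Nat.shiftRight n 3) 8))))
    (getT T (Nat.add 16 (Nat.mod (Nat.shiftRight n 6) 8))))
    (getT T (Nat.add 24 (Nat.mod (Nat.shiftRight n 9) 8))))
    (getT T (Nat.add 32 (Nat.mod (Nat.shiftRight n 12) 8))))
    (getT T (Nat.add 40 (Nat.mod (Nat.shiftRight n 15) 8))))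
    (getT T (Nat.add 48 (Nat.mod (Nat.shiftRight n 18) 8))))
    (getT T (Nat.add 56 (Nat.mod (Nat.shiftRight n 21) 8)))

theorem app_eq (T n : ℕ) : app T n = xs fun j => getP 24 T (8 * j.val + n >>> (3 * j.val) % 8) := by
  have h : n % 8 = 8 * 0 + n >>> (3 * 0) % 8 := by simp
  show Nat.xor _ _ = _
  simp only [getT_eq, Nat.shiftRight, xs]
  rw [show Nat.mod n 8 = 8 * 0 + n >>> (3 * 0) % 8 from h]
  rfl

theorem app_xor_table (P Q n : ℕ) : app (P ^^^ Q) n = app P n ^^^ app Q n := by
  simp only [app_eq, xs, getP_xor]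
  ac_rfl

theorem app_lt (T n : ℕ) : app T n < 2 ^ 24 := by
  simp only [app_eq, xs]
  repeat' apply Nat.xor_lt_two_pow
  all_goals exact getP_lt _ _ _

theorem app_enc (T : ℕ) (v : V) : app T (enc v) = xs fun j => getP 24 T (8 * j.val + (v j).n.val) := by
  simp only [app_eq, digit_enc]

/-- A table represents a matrix. -/
def Rep (T : ℕ) (A : Matrix (Fin 8) (Fin 8) K8) : Prop := ∀ v, app T (enc v) = enc (A.mulVec v)

/-- A multiple of a code. -/
def smulN (a n : ℕ) : ℕ := enc (ofN a • dec n)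

theorem mulVec_eq_sum (A : Matrix (Fin 8) (Fin 8) K8) (v : V) :
    A.mulVec v = ∑ j, v j • fun i => A i j := by
  funext i
  simp [Matrix.mulVec, dotProduct, Finset.sum_apply, mul_comm]

/-- The table of a matrix. -/
def mkT (A : Matrix (Fin 8) (Fin 8) K8) : ℕ :=
  packP 24 ((List.range 64).map fun k => enc (ofN (k % 8) • fun i => A i ⟨k / 8 % 8, Nat.mod_lt _ (by norm_num)⟩))

theorem getP_map (f : ℕ → ℕ) (hf : ∀ k, f k < 2 ^ 24) (j : Fin 8) {a : ℕ} (ha : a < 8) :
    getP 24 (packP 24 ((List.range 64).map f)) (8 * j.val + a) = f (8 * j.val + a) := by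
  rw [getP_pack 24 _ (by simp only [List.mem_map]; rintro x ⟨k, -, rfl⟩; exact hf k)]
  have := j.isLt
  simp [List.getD_eq_getElem?_getD, List.getElem?_range (show 8 * j.val + a < 64 by omega)]

theorem rep_mkT (A : Matrix (Fin 8) (Fin 8) K8) : Rep (mkT A) A := by
  intro v
  rw [app_enc, mulVec_eq_sum, enc_sum]
  congr 1
  funext j
  rw [mkT, getP_map _ (fun k => enc_lt _) j (v j).n.isLt]
  have := (v j).n.isLt
  have := j.isLt
  congr 2
  · rw [show (8 * j.val + (v j).n.val) % 8 = (v j).n.val by omega, ofN_n]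
  · funext i
    congr 1
    exact Fin.ext (show (8 * j.val + (v j).n.val) / 8 % 8 = j.val by omega)

/-- The matrix of a table. -/
def matT (T : ℕ) : Matrix (Fin 8) (Fin 8) K8 := fun i j => dec (getP 24 T (8 * j.val + 1)) i

/-- The chunks of a table are linear. -/
def linT (T : ℕ) : Bool := (List.range 64).all fun k =>
  getP 24 T k == smulN (k % 8) (getP 24 T (8 * (k / 8) + 1))

theorem rep_matT {T : ℕ} (h : linT T = true) : Rep T (matT T) := by
  intro v
  rw [app_enc, mulVec_eq_sum, enc_sum]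
  congr 1
  funext j
  have := (v j).n.isLt
  have := j.isLt
  have e := beq_iff_eq.1 (List.all_eq_true.1 h (8 * j.val + (v j).n.val) (List.mem_range.2 (by omega)))
  rw [e, show (8 * j.val + (v j).n.val) % 8 = (v j).n.val by omega,
    show (8 * j.val + (v j).n.val) / 8 = j.val by omega, smulN, ofN_n]
  rfl

/-- The code of a coordinate vector. -/
def unit (j : Fin 8) : ℕ := 1 <<< (3 * j.val)

theorem enc_single : ∀ j : Fin 8, enc (Pi.single j 1) = unit j := by decide +kernel

theorem Rep.unit {T : ℕ} {A : Matrix (Fin 8) (Fin 8) K8} (h : Rep T A) (j : Fin 8) :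
    app T (D4Two.unit j) = enc (A.mulVec (Pi.single j 1)) := by rw [← enc_single]; exact h _

theorem Rep.dec {T : ℕ} {A : Matrix (Fin 8) (Fin 8) K8} (h : Rep T A) (v : V) :
    D4Two.dec (app T (enc v)) = A.mulVec v := by rw [h, dec_enc]

theorem Rep.ext {S T : ℕ} {A B : Matrix (Fin 8) (Fin 8) K8} (hA : Rep S A) (hB : Rep T B)
    (h : ∀ j, app S (D4Two.unit j) = app T (D4Two.unit j)) : A = B := by
  refine Matrix.ext fun i j => ?_
  have e := enc_inj ((hA.unit j).symm.trans ((h j).trans (hB.unit j)))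
  simpa using congrFun e i

/-- The table of a product. -/
def mulC (T S : ℕ) : ℕ := packP 24 ((List.range 64).map fun k => app T (getT S k))

theorem xs_lt {f : Fin 8 → ℕ} (h : ∀ j, f j < 2 ^ 24) : xs f < 2 ^ 24 := by
  simp only [xs]
  repeat' apply Nat.xor_lt_two_pow
  all_goals exact h _

theorem dec_xs {f : Fin 8 → ℕ} (h : ∀ j, f j < 2 ^ 24) : dec (xs f) = ∑ j, dec (f j) := by
  refine enc_inj ?_
  rw [enc_sum, enc_dec (xs_lt h)]
  exact congrArg xs (funext fun j => (enc_dec (h j)).symm)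

theorem Rep.mul {T S : ℕ} {A B : Matrix (Fin 8) (Fin 8) K8} (hA : Rep T A) (hB : Rep S B) :
    Rep (mulC T S) (A * B) := by
  intro v
  have e : B.mulVec v = ∑ j : Fin 8, D4Two.dec (getP 24 S (8 * j.val + (v j).n.val)) := by
    rw [← hB.dec v, app_enc, dec_xs fun j => getP_lt _ _ _]
  have e1 : ∀ j : Fin 8, getP 24 (mulC T S) (8 * j.val + (v j).n.val) =
      enc (A.mulVec (D4Two.dec (getP 24 S (8 * j.val + (v j).n.val)))) := fun j => by
    rw [mulC, getP_map _ (fun k => app_lt _ _) j (v j).n.isLt, getT_eq, ← hA, enc_dec (getP_lt _ _ _)]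
  rw [app_enc, ← Matrix.mulVec_mulVec, e, Matrix.mulVec_sum, enc_sum]
  exact congrArg xs (funext e1)

/-- The table of the identity. -/
def oneC : ℕ := mkT 1

theorem rep_one : Rep oneC 1 := rep_mkT 1

/-- The left table of the bilinear operation. -/
def lft (TM : Fin 8 → ℕ) (u : ℕ) : ℕ :=
  Nat.xor (Nat.xor (Nat.xor (Nat.xor (Nat.xor (Nat.xor (Nat.xor (getP 1536 (TM 0) (Nat.mod u 8))
    (getP 1536 (TM 1) (Nat.mod (Nat.shiftRight u 3) 8)))
    (getP 1536 (TM 2) (Nat.mod (Nat.shiftRight u 6) 8)))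
    (getP 1536 (TM 3) (Nat.mod (Nat.shiftRight u 9) 8)))
    (getP 1536 (TM 4) (Nat.mod (Nat.shiftRight u 12) 8)))
    (getP 1536 (TM 5) (Nat.mod (Nat.shiftRight u 15) 8)))
    (getP 1536 (TM 6) (Nat.mod (Nat.shiftRight u 18) 8)))
    (getP 1536 (TM 7) (Nat.mod (Nat.shiftRight u 21) 8))

theorem lft_eq (TM : Fin 8 → ℕ) (u : ℕ) :
    lft TM u = xs fun i => getP 1536 (TM i) (u >>> (3 * i.val) % 8) := rfl

/-- The bilinear operation on codes. -/
def mb (TM : Fin 8 → ℕ) (u v : ℕ) : ℕ := app (lft TM u) v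

/-- The value on two coordinate vectors. -/
def base (TM : Fin 8 → ℕ) (i j : Fin 8) : ℕ := getP 24 (getP 1536 (TM i) 1) (8 * j.val + 1)

/-- The coefficient of a pair of coordinates. -/
def coef (a b : K8) : K8 := a * a * (b * b * (b * b))

/-- The table is semilinear. -/
def okM (TM : Fin 8 → ℕ) : Bool := (List.finRange 8).all fun i => (List.range 8).all fun a =>
  (List.finRange 8).all fun j => (List.range 8).all fun b =>
    getP 24 (getP 1536 (TM i) a) (8 * j.val + b) == enc (coef (ofN a) (ofN b) • dec (base TM i j))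

/-- The bilinear operation. -/
def Mv (TM : Fin 8 → ℕ) (u v : V) : V := ∑ i, ∑ j, coef (u i) (v j) • dec (base TM i j)

theorem mb_enc {TM : Fin 8 → ℕ} (h : okM TM = true) (u v : V) : mb TM (enc u) (enc v) = enc (Mv TM u v) := by
  simp only [okM, List.all_eq_true, List.mem_finRange, true_implies, List.mem_range, beq_iff_eq] at h
  have e : ∀ i, app (getP 1536 (TM i) (u i).n.val) (enc v) = enc (∑ j, coef (u i) (v j) • dec (base TM i j)) := by
    intro i
    rw [app_enc, enc_sum]
    congr 1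
    funext j
    rw [h i _ (u i).n.isLt j _ (v j).n.isLt, ofN_n, ofN_n]
  simp only [mb, lft_eq, Mv, enc_sum, xs, app_xor_table, digit_enc, e]

end Cfsg.Agent.H90.D4Two
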