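import Cfsg.Agent.H90.D4Two.Rep1

/-!
Orders in one centraliser.
-/

set_option autoImplicit false
set_option maxRecDepth 100000
set_option maxHeartbeats 800000
set_option Elab.async false

namespace Cfsg.Agent.H90.D4Two

theorem dat1_good4 : (((cst1.drop 44).take 11).all fun c => st1.all fun s => goodC (mulC c.1 s)) = true := by decide +kernel

theorem dat1_good5 : (((cst1.drop 55).take 11).all fun c => st1.all fun s => goodC (mulC c.1 s)) = true := by decide +kernel

theorem dat1_good6 : (((cst1.drop 66).take 11).all fun c => st1.all fun s => goodC (mulC c.1 s)) = true := by decide +kernel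

theorem dat1_good7 : (((cst1.drop 77).take 11).all fun c => st1.all fun s => goodC (mulC c.1 s)) = true := by decide +kernel

end Cfsg.Agent.H90.D4Two
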