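import Cfsg.Agent.H90.D4Two.CheckBase
import Cfsg.Agent.H90.D4Two.Check0
import Cfsg.Agent.H90.D4Two.Check1
import Cfsg.Agent.H90.D4Two.Check2
import Cfsg.Agent.H90.D4Two.Good0
import Cfsg.Agent.H90.D4Two.Good1a
import Cfsg.Agent.H90.D4Two.Good1b

/-!
The image group in dimension eight: orders of elements and sums of powers.
-/

set_option autoImplicit false
set_option maxRecDepth 100000

namespace Cfsg.Agent.H90.D4Two

open K8 Matrix

attribute [local irreducible] unit enc oneC mulC app

/-- The linear group. -/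
abbrev GL8 := GL (Fin 8) K8

/-- The image group. -/
def Gc : Subgroup GL8 := Subgroup.closure {g | g ∈ all20.map wordEl}

theorem rep_wordC : ∀ w : List (ℕ × K8), Rep (wordC w) ((wordEl w : GL8) : M8)
  | [] => by simpa [wordC, wordEl] using rep_one
  | p :: w => by
    have h := rep_wordC w
    simp only [wordC, wordEl, List.map_cons, List.foldr_cons, List.prod_cons, Units.val_mul] at h ⊢
    exact (rep_mkT _).mul h

theorem rep_genC (k : ℕ) : ∃ g ∈ Gc, Rep (genC.getD k oneC) (g : M8) := by
  rw [← beq_iff_eq.1 genC_words, List.getD_eq_getElem?_getD, List.getElem?_map]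
  cases e : all20[k]? with
  | none => exact ⟨1, one_mem _, by simpa using rep_one⟩
  | some w =>
    exact ⟨wordEl w, Subgroup.subset_closure (List.mem_map.2 ⟨w, List.mem_of_getElem? e, rfl⟩),
      by simpa using rep_wordC w⟩

theorem rep_wordT : ∀ w : List ℕ, ∃ g ∈ Gc, Rep (wordT w) (g : M8)
  | [] => ⟨1, one_mem _, by simpa [wordT] using rep_one⟩
  | k :: w => by
    obtain ⟨a, ha, hA⟩ := rep_genC k
    obtain ⟨b, hb, hB⟩ := rep_wordT w
    exact ⟨a * b, mul_mem ha hb, by simpa [wordT] using hA.mul hB⟩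

/-- The matrices preserving the operation. -/
def presSub : Subgroup GL8 where
  carrier := {g | Pres TMv (g : M8)}
  mul_mem' ha hb := Pres.mul TMv ha hb
  one_mem' := pres_one TMv
  inv_mem' {g} hg := Pres.inv TMv hg (Units.inv_mul g)

theorem gc_le_pres : Gc ≤ presSub := by
  refine (Subgroup.closure_le _).2 ?_
  intro g hg
  obtain ⟨w, hw, rfl⟩ := List.mem_map.1 hg
  refine pres_of_check TMv okM_TMv (rep_wordC w) (List.all_eq_true.1 genC_pres _ ?_)
  rw [← beq_iff_eq.1 genC_words]
  exact List.mem_map.2 ⟨w, hw, rfl⟩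

theorem rep_unique {T : ℕ} {g h : GL8} (hg : Rep T (g : M8)) (hh : Rep T (h : M8)) : g = h :=
  Units.ext (hg.ext hh fun _ => rfl)

theorem foldl_inv {α β : Type} (f : List α → β → List α) (Q : List α → Prop)
    (h : ∀ l b, Q l → Q (f l b)) : ∀ (s : List β) (l : List α), Q l → Q (s.foldl f l)
  | [], _, hl => hl
  | b :: s, l, hl => foldl_inv f Q h s _ (h l b hl)

theorem syl_spec (S : SylD) (h : S.listOK = true) :
    ∃ P : Subgroup GL8, P ≤ Gc ∧ Nat.card P = S.size ∧ ∀ g ∈ P, ∃ T ∈ S.elems, Rep T (g : M8) := by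
  simp only [SylD.listOK, Bool.and_eq_true, beq_iff_eq, decide_eq_true_eq, List.all_eq_true,
    List.contains_iff_mem] at h
  obtain ⟨⟨⟨hb, hcl⟩, hlen⟩, hnd⟩ := h
  set P : Subgroup GL8 := Subgroup.closure {g | ∃ T ∈ S.gT, Rep T (g : M8)} with hP
  have hgen : ∀ k, ∃ g ∈ P, Rep (S.gT.getD k oneC) (g : M8) := fun k => by
    rw [List.getD_eq_getElem?_getD]
    cases e : S.gT[k]? with
    | none => exact ⟨1, one_mem _, by simpa using rep_one⟩
    | some T =>
      have hT := List.mem_of_getElem? e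
      obtain ⟨w, -, rfl⟩ := List.mem_map.1 hT
      obtain ⟨g, -, hg⟩ := rep_wordT w
      exact ⟨g, Subgroup.subset_closure ⟨_, hT, hg⟩, by simpa using hg⟩
  have hmem : ∀ T ∈ S.elems, ∃ g ∈ P, Rep T (g : M8) := by
    rw [← hb]
    refine foldl_inv _ (fun l => ∀ T ∈ l, ∃ g ∈ P, Rep T (g : M8)) ?_ _ _ ?_
    · intro l st hl T hT
      rcases List.mem_append.1 hT with hT | hT
      · exact hl T hT
      rw [List.mem_singleton] at hT
      subst hT
      obtain ⟨a, ha, hA⟩ := hgen st.1
      obtain ⟨b, hb', hB⟩ : ∃ g ∈ P, Rep (l.getD st.2 oneC) (g : M8) := by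
        rw [List.getD_eq_getElem?_getD]
        cases e : l[st.2]? with
        | none => exact ⟨1, one_mem _, by simpa using rep_one⟩
        | some U => simpa using hl U (List.mem_of_getElem? e)
      exact ⟨a * b, mul_mem ha hb', by simpa using hA.mul hB⟩
    · intro T hT
      rw [List.mem_singleton] at hT
      subst hT
      exact ⟨1, one_mem _, by simpa using rep_one⟩
  have hone : oneC ∈ S.elems := by
    rw [← hb]
    refine foldl_inv _ (fun l => oneC ∈ l) (fun l st hl => List.mem_append_left _ hl) _ _ List.mem_cons_self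
  have hfull : ∀ g ∈ P, ∃ T ∈ S.elems, Rep T (g : M8) := by
    intro g hg
    rw [hP, ← Subgroup.mem_toSubmonoid, Subgroup.closure_toSubmonoid_of_finite] at hg
    induction hg using Submonoid.closure_induction_left with
    | one => exact ⟨oneC, hone, by simpa using rep_one⟩
    | mul_left x hx y _ ih =>
      obtain ⟨T, hT, hTx⟩ := hx
      obtain ⟨U, hU, hUy⟩ := ih
      exact ⟨_, hcl T hT U hU, by simpa using hTx.mul hUy⟩
  refine ⟨P, (Subgroup.closure_le _).2 ?_, ?_, hfull⟩
  · rintro g ⟨T, hT, hg⟩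
    obtain ⟨w, -, rfl⟩ := List.mem_map.1 hT
    obtain ⟨g', hg', e⟩ := rep_wordT w
    exact rep_unique hg e ▸ hg'
  · choose F hF hFr using hfull
    let Φ : P → {T // T ∈ S.elems} := fun g => ⟨F g.1 g.2, hF g.1 g.2⟩
    have hbij : Function.Bijective Φ := by
      refine ⟨fun a b e => ?_, fun T => ?_⟩
      · have e' : F a.1 a.2 = F b.1 b.2 := congrArg Subtype.val e
        exact Subtype.ext (rep_unique (e' ▸ hFr a.1 a.2) (hFr b.1 b.2))
      · obtain ⟨g, hg, hT⟩ := hmem T.1 T.2
        refine ⟨⟨g, hg⟩, Subtype.ext (List.inj_on_of_nodup_map hnd (hF g hg) T.2 ?_)⟩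
        refine List.map_congr_left fun u hu => ?_
        obtain ⟨j, -, rfl⟩ := List.mem_map.1 hu
        rw [(hFr g hg).unit, hT.unit]
    rw [Nat.card_eq_of_bijective Φ hbij,
      ← Nat.card_congr (List.Nodup.getEquiv _ (List.Nodup.of_map _ hnd)), Nat.card_fin, hlen]

theorem exists_order {m : ℕ} (hm : m ∈ [2, 4, 6, 8, 12, 14]) : ∃ g ∈ Gc, orderOf g = m := by
  have h : ([2, 4, 6, 8, 12, 14] : List ℕ) = ordWords.map Prod.fst := rfl
  rw [h] at hm
  obtain ⟨q, hq, rfl⟩ := List.mem_map.1 hm
  obtain ⟨g, hg, hr⟩ := rep_wordT q.2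
  have e := beq_iff_eq.1 (List.all_eq_true.1 ord_words q hq)
  obtain ⟨⟨m', z⟩, hi, hm'⟩ := Option.map_eq_some_iff.1 e
  exact ⟨g, hg, by rw [← orderOf_units, (ordInfo_spec hr hi).1, ← hm']⟩

theorem all_of_chunks {α : Type} {l : List α} {p : α → Bool} {n k : ℕ} (hlen : l.length ≤ n * k)
    (h : ∀ i < k, ((l.drop (n * i)).take n).all p = true) : l.all p = true := by
  refine List.all_eq_true.2 fun a ha => ?_
  obtain ⟨i, hi, rfl⟩ := List.getElem_of_mem ha
  have hn : 0 < n := by by_contra h0; simp [show n = 0 by omega] at hlen; simp [hlen] at hi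
  have hik : i / n < k := Nat.div_lt_iff_lt_mul hn |>.2 (by rw [mul_comm]; omega)
  refine List.all_eq_true.1 (h _ hik) _ (List.mem_iff_getElem?.2 ⟨i % n, ?_⟩)
  rw [List.getElem?_take_of_lt (Nat.mod_lt _ hn), List.getElem?_drop, Nat.div_add_mod,
    List.getElem?_eq_getElem hi]

theorem good_all0 : (dat0.cst.all fun c => dat0.st.all fun s => goodC (mulC c.1 s)) = true := by
  refine all_of_chunks (n := 1) (k := 3) (by decide) fun i hi => List.all_eq_true.2 fun c hc => ?_
  rw [one_mul] at hc
  refine all_of_chunks (n := 108) (k := 2) (by decide) fun j hj => ?_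
  interval_cases i <;> interval_cases j
  · exact List.all_eq_true.1 dat0_good0 c hc
  · exact List.all_eq_true.1 dat0_good1 c hc
  · exact List.all_eq_true.1 dat0_good2 c hc
  · exact List.all_eq_true.1 dat0_good3 c hc
  · exact List.all_eq_true.1 dat0_good4 c hc
  · exact List.all_eq_true.1 dat0_good5 c hc

theorem good_all1 : (dat1.cst.all fun c => dat1.st.all fun s => goodC (mulC c.1 s)) = true := by
  refine all_of_chunks (n := 11) (k := 8) (by decide) fun i hi => ?_
  interval_cases i
  · exact dat1_good0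
  · exact dat1_good1
  · exact dat1_good2
  · exact dat1_good3
  · exact dat1_good4
  · exact dat1_good5
  · exact dat1_good6
  · exact dat1_good7

/-- The data of a representative. -/
def datOf : ℕ → Dat
  | 0 => dat0
  | 1 => dat1
  | _ => dat2

theorem datOf_eq : ∀ r < reps.length, (datOf r).p = (reps.getD r (0, 0)).1 ∧
    (datOf r).x = (reps.getD r (0, 0)).2 := by
  decide +kernel

theorem cent_good {r : ℕ} (hr : r < reps.length) {X : M8} (hX : Rep (reps.getD r (0, 0)).2 X) {A B : M8}
    (hBA : B * A = 1) (hA : Pres TMv A) (hAX : A * X = X * A) : GoodM A := by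
  rw [← (datOf_eq r hr).2] at hX
  have key : ∀ D : Dat, Rep D.x X → D.baseOK TMv = true → D.idsA TMv = true → D.cstOK TMv = true →
      D.spanOK TMv = true → D.stabOK TMv = true →
      (D.cst.all fun c => D.st.all fun s => goodC (mulC c.1 s)) = true → GoodM A := by
    intro D hX h1 h2 h3 h4 h5 h6
    obtain ⟨c, hc, s, hs, hrep⟩ := cent_spec okM_TMv hX h1 h2 h3 h4 h5 hBA hA hAX
    exact good_of_check hrep (List.all_eq_true.1 (List.all_eq_true.1 h6 c hc) s hs)
  match r, hX with
  | 0, hX => exact key dat0 hX dat0_base dat0_ids dat0_cst dat0_span dat0_stab good_all0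
  | 1, hX => exact key dat1 hX dat1_base dat1_ids dat1_cst dat1_span dat1_stab good_all1
  | _ + 2, hX => exact key dat2 hX dat2_base dat2_ids dat2_cst dat2_span dat2_stab dat2_good

theorem geom_fix {R : Type*} [Ring R] (a : R) {n : ℕ} (h : a ^ n = 1) (k : ℕ) :
    a ^ k * ∑ i ∈ Finset.range n, a ^ i = ∑ i ∈ Finset.range n, a ^ i := by
  have h1 : a * ∑ i ∈ Finset.range n, a ^ i = ∑ i ∈ Finset.range n, a ^ i := by
    rw [Finset.mul_sum]
    simp only [← pow_succ']
    have e1 := Finset.sum_range_succ (fun i => a ^ i) n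
    have e2 := Finset.sum_range_succ' (fun i => a ^ i) n
    rw [h] at e1
    rw [pow_zero] at e2
    exact add_right_cancel (e2.symm.trans e1)
  induction k with
  | zero => rw [pow_zero, one_mul]
  | succ k ih => rw [pow_succ, mul_assoc, h1, ih]

theorem good_of_conj (z g : GL8) (h : GoodM ((z * g * z⁻¹ : GL8) : M8)) : GoodM (g : M8) := by
  have ho : orderOf (z * g * z⁻¹) = orderOf g :=
    orderOf_injective (MulAut.conj z).toMonoidHom (MulAut.conj z).injective g
  rw [GoodM, orderOf_units, ho, ← orderOf_units] at h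
  refine h.imp_right fun h => ?_
  have e : ∀ i, (((z * g * z⁻¹ : GL8) : M8)) ^ i = (z : M8) * (g : M8) ^ i * ((z⁻¹ : GL8) : M8) := fun i => by
    rw [← Units.val_pow_eq_pow_val, conj_pow, Units.val_mul, Units.val_mul, Units.val_pow_eq_pow_val]
  simp only [e, ← Finset.mul_sum, ← Finset.sum_mul] at h
  calc ∑ i ∈ Finset.range (orderOf (g : M8)), (g : M8) ^ i
      = ((z⁻¹ : GL8) : M8) * ((z : M8) * (∑ i ∈ Finset.range (orderOf (g : M8)), (g : M8) ^ i) *
          ((z⁻¹ : GL8) : M8)) * (z : M8) := by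
        simp only [← mul_assoc, Units.inv_mul, one_mul]
        rw [mul_assoc, Units.inv_mul, mul_one]
    _ = 0 := by rw [h, mul_zero, zero_mul]

theorem good_of_syl (S : SylD) (hc : S.certOK reps = true) {T : ℕ} (hT : T ∈ S.elems) {y g : GL8}
    (hy : Rep T (y : M8)) (hyp : orderOf y = S.p) (hp : 1 < S.p) (hg : g ∈ Gc) {k : ℕ} (hk : g ^ k = y) :
    GoodM (g : M8) := by
  simp only [SylD.certOK, Bool.and_eq_true, beq_iff_eq, List.all_eq_true] at hc
  obtain ⟨i, hi, rfl⟩ := List.getElem_of_mem hT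
  have hok := hc.2 (S.elems[i], S.certs[i]'(hc.1 ▸ hi)) (by
    rw [List.mem_iff_getElem]
    exact ⟨i, by simp [List.length_zip, hc.1, hi], by simp⟩)
  generalize S.certs[i]'(hc.1 ▸ hi) = c at hok
  cases c with
  | notp =>
    exfalso
    simp only [Cert.ok, Bool.or_eq_true, Bool.not_eq_true'] at hok
    rcases hok with hok | hok
    · have : (units.all fun u => powApp S.elems[i] S.p u == u) = true := by
        refine List.all_eq_true.2 fun u hu => beq_iff_eq.2 ?_
        obtain ⟨j, -, rfl⟩ := List.mem_map.1 hu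
        rw [powApp_img hy _ (unit_lt j), ← Units.val_pow_eq_pow_val, ← hyp, pow_orderOf_eq_one]
        simp [img, enc_dec (unit_lt j)]
      simp [this] at hok
    · have : y = 1 := by
        refine rep_unique hy ?_
        intro v
        have e1 : (y : M8) = 1 := hy.ext rep_one fun j => by
          rw [beq_iff_eq.1 (List.all_eq_true.1 hok _ (List.mem_map.2 ⟨j, List.mem_finRange j, rfl⟩)),
            rep_one.unit, one_mulVec, enc_single]
        rw [hy v, e1]
        simp
      rw [this, orderOf_one] at hyp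
      omega
  | free L =>
    simp only [Cert.ok, Bool.and_eq_true, List.all_eq_true, beq_iff_eq] at hok
    have hL := rep_matT hok.1
    have hinj : matT L * ((y : M8) + 1) = 1 := eq_of_img_unit fun j => by
      have e := hok.2 _ (List.mem_map.2 ⟨j, List.mem_finRange j, rfl⟩)
      rw [← enc_single, hy, ← enc_add, hL] at e
      rw [img_unit, img_unit, ← mulVec_mulVec, add_mulVec, one_mulVec, e]
    right
    set ν := ∑ i ∈ Finset.range (orderOf (g : M8)), (g : M8) ^ i
    have h1 : (g : M8) ^ k * ν = ν := geom_fix _ (pow_orderOf_eq_one _) k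
    rw [← Units.val_pow_eq_pow_val, hk] at h1
    have h2 : ((y : M8) + 1) * ν = 0 := by
      rw [add_mul, h1, one_mul]
      ext i j
      exact CharTwo.add_self_eq_zero (ν i j)
    calc ν = matT L * ((y : M8) + 1) * ν := by rw [hinj, one_mul]
      _ = 0 := by rw [mul_assoc, h2, mul_zero]
  | conj r w wi =>
    simp only [Cert.ok, Bool.and_eq_true, List.all_eq_true, beq_iff_eq, decide_eq_true_eq] at hok
    obtain ⟨⟨⟨⟨⟨hlw, hlwi⟩, hpw⟩, hr⟩, -⟩, hu⟩ := hok
    have hW := rep_matT hlw
    have hWi := rep_matT hlwi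
    have hinv : matT wi * matT w = 1 := eq_of_img_unit fun j => by
      have e := (hu _ (List.mem_map.2 ⟨j, List.mem_finRange j, rfl⟩)).1
      rw [← enc_single, hW, hWi] at e
      rw [img_unit, img_unit, ← mulVec_mulVec, e, one_mulVec]
    let z : GL8 := ⟨matT w, matT wi, mul_eq_one_comm.1 hinv, hinv⟩
    refine good_of_conj z g ?_
    have hX0 : ∃ X, Rep (reps.getD r (0, 0)).2 X := by
      have h : ∀ r < reps.length, linT (reps.getD r (0, 0)).2 = true := by decide +kernel
      exact ⟨_, rep_matT (h r hr)⟩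
    obtain ⟨X, hX⟩ := hX0
    have hwy : matT w * (y : M8) = X * matT w := eq_of_img_unit fun j => by
      have e := (hu _ (List.mem_map.2 ⟨j, List.mem_finRange j, rfl⟩)).2
      rw [← enc_single, hy, hW, hW, hX] at e
      rw [img_unit, img_unit, ← mulVec_mulVec, ← mulVec_mulVec, e]
    have hx : ((z * y * z⁻¹ : GL8) : M8) = X := by
      show matT w * (y : M8) * matT wi = X
      rw [hwy, mul_assoc, mul_eq_one_comm.1 hinv, mul_one]
    have hz : Pres TMv ((z : GL8) : M8) := pres_of_check TMv okM_TMv hW hpw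
    refine cent_good hr hX (B := ((z * g * z⁻¹)⁻¹ : GL8)) (Units.inv_mul _) ?_ ?_
    · rw [Units.val_mul, Units.val_mul]
      exact Pres.mul TMv (Pres.mul TMv hz (gc_le_pres hg)) (Pres.inv TMv hz (Units.inv_mul z))
    · rw [← hx, ← Units.val_mul, ← Units.val_mul, ← hk, ← conj_pow, ← pow_succ', ← pow_succ]

/-- A unitriangular pattern with one further zero. -/
def NPat (k : ℕ) (N : M8) : Prop :=
  ∀ i j : Fin 8, j.val < i.val + k ∨ (j.val = i.val + k ∧ i.val ≤ 3 ∧ 4 ≤ j.val) → N i j = 0

theorem npat_mul {k : ℕ} {M N : M8} (hk : 0 < k) (hM : NPat k M) (hN : NPat 1 N) : NPat (k + 1) (M * N) := by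
  intro i j h
  rw [Matrix.mul_apply]
  refine Finset.sum_eq_zero fun l _ => ?_
  by_cases h1 : l.val < i.val + k ∨ (l.val = i.val + k ∧ i.val ≤ 3 ∧ 4 ≤ l.val)
  · rw [hM i l h1, zero_mul]
  · rw [hN l j (by omega), mul_zero]

theorem npat_pow {N : M8} (hN : NPat 1 N) : ∀ k, NPat (k + 1) (N ^ (k + 1))
  | 0 => by simpa using hN
  | k + 1 => by rw [pow_succ]; exact npat_mul k.succ_pos (npat_pow hN k) hN

theorem good_two {g : GL8} (hg : NPat 1 ((g : M8) - 1)) : GoodM (g : M8) := by
  set A : M8 := (g : M8)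
  set N : M8 := A - 1
  have h7 : N ^ 7 = 0 := by
    ext i j
    exact npat_pow hg 6 i j (by have := i.isLt; have := j.isLt; omega)
  have hd : ∀ x : M8, x + x = 0 := fun x => by ext i j; exact CharTwo.add_self_eq_zero _
  have hsub : ∀ x y : M8, x - y = x + y := fun x y => by ext i j; exact CharTwo.sub_eq_add _ _
  have hN : N = A + 1 := hsub _ _
  have hN2 : N * N = A ^ 2 + 1 := by
    rw [hN, mul_add, add_mul, add_mul, one_mul, mul_one, mul_one, ← pow_two, add_assoc, ← add_assoc A A 1,
      hd, zero_add]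
  have hN4 : N * N * (N * N) = A ^ 4 + 1 := by
    rw [hN2, mul_add, add_mul, add_mul, one_mul, mul_one, mul_one, ← pow_add, add_assoc,
      ← add_assoc (A ^ 2) (A ^ 2) 1, hd, zero_add]
  have hS : ∑ i ∈ Finset.range 8, A ^ i = 0 := by
    rw [← h7, show N ^ 7 = N * (N * N) * (N * N * (N * N)) by simp only [pow_succ, pow_zero, one_mul, mul_assoc],
      hN4, hN2, hN]
    simp only [Finset.sum_range_succ, Finset.sum_range_zero, mul_add, add_mul, mul_one, one_mul, zero_add,
      ← pow_succ', ← pow_add, ← pow_succ]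
    simp only [pow_zero, pow_one]
    abel
  have h8 : A ^ 8 = 1 := by
    have e := mul_geom_sum A 8
    rw [hS, mul_zero] at e
    exact (sub_eq_zero.1 e.symm)
  obtain ⟨a, ha, e⟩ := (Nat.dvd_prime_pow Nat.prime_two).1
    (show orderOf A ∣ 2 ^ 3 from orderOf_dvd_of_pow_eq_one h8)
  rw [GoodM, e]
  interval_cases a
  · exact Or.inl (by decide)
  · exact Or.inl (by decide)
  · exact Or.inl (by decide)
  · exact Or.inr hS

end Cfsg.Agent.H90.D4Two
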