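import Cfsg.Agent.H90.D4Two.Group
import Cfsg.Agent.H37.Twist.D4Perfect

/-!
The triality group over two in dimension eight, and groups with the same element orders.
-/

set_option autoImplicit false
set_option maxRecDepth 100000

namespace Cfsg.Agent.H90.D4Two

open K8 Matrix Cfsg.Lie
open scoped Pointwise

attribute [local irreducible] unit enc oneC mulC app

theorem word_cases : ∀ w ∈ all20, (∃ r ∈ [14, 9], ∃ t : K8, t ^ 2 = t ∧ w = [(r, t)]) ∨
    ∃ rs ∈ [posT, negT], ∃ t : K8, w = tripleW rs t := by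
  decide +kernel

theorem single_word : ∀ r ∈ [14, 9], ∀ t : K8, t ^ 2 = t → [(r, t)] ∈ all20 := by decide +kernel

theorem triple_word : ∀ rs ∈ [posT, negT], ∀ t : K8, tripleW rs t ∈ all20 := by decide +kernel

theorem pos_pattern : ∀ r : Fin 24, chevD4.IsPosRoot r →
    ∀ i j : Fin 8, j.val < i.val + 1 ∨ (j.val = i.val + 1 ∧ i.val ≤ 3 ∧ 4 ≤ j.val) → (pos r).count (i, j) = 0 := by
  decide +kernel

/-- Unitriangular matrices with one further zero. -/
def patMonoid : Submonoid GL8 where
  carrier := {g | NPat 1 ((g : M8) - 1)}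
  mul_mem' {a b} ha hb := fun i j h => by
    have e : ((a * b : GL8) : M8) - 1 =
        ((a : M8) - 1) * ((b : M8) - 1) + (((a : M8) - 1) + ((b : M8) - 1)) := by
      rw [Units.val_mul, sub_mul, mul_sub, mul_sub, one_mul, one_mul, mul_one]; abel
    rw [e, Matrix.add_apply, Matrix.add_apply, ha i j h, hb i j h, add_zero, add_zero]
    exact npat_mul one_pos ha hb i j (Or.inl (by omega))
  one_mem' := fun i j _ => by simp

/-- The subgroup of these matrices. -/
def patSub : Subgroup GL8 where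
  toSubmonoid := patMonoid
  inv_mem' {a} ha := by
    have e : a⁻¹ = a ^ (orderOf a - 1) := by
      refine inv_eq_of_mul_eq_one_left ?_
      rw [← pow_succ, Nat.sub_add_cancel (orderOf_pos a), pow_orderOf_eq_one]
    rw [e]
    exact patMonoid.pow_mem ha _

theorem gc_good (hcard : Nat.card Gc = 2 ^ 12 * 3 ^ 4 * 7 ^ 2 * 13)
    (hU : ∃ U : Subgroup GL8, U ≤ Gc ∧ Nat.card U = 2 ^ 12 ∧ U ≤ patSub) :
    ∀ g ∈ Gc, GoodM (g : M8) := by
  have sylow : ∀ (p a : ℕ), p.Prime → ¬ p ^ (a + 1) ∣ 2 ^ 12 * 3 ^ 4 * 7 ^ 2 * 13 →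
      ∀ P : Subgroup GL8, P ≤ Gc → Nat.card P = p ^ a →
      ∀ x ∈ Gc, (∃ e, orderOf x = p ^ e) → ∃ z ∈ Gc, z * x * z⁻¹ ∈ P := by
    intro p a hp hnd P hPG hP x hx hxo
    haveI : Fact p.Prime := ⟨hp⟩
    have hP' : Nat.card (P.subgroupOf Gc) = p ^ a := by
      rw [Nat.card_congr (Subgroup.subgroupOfEquivOfLe hPG).toEquiv, hP]
    have hidx : ¬ p ∣ (P.subgroupOf Gc).index := by
      intro hd
      apply hnd
      rw [← hcard, ← (P.subgroupOf Gc).card_mul_index, hP', pow_succ]
      exact Nat.mul_dvd_mul_left _ hd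
    let S : Sylow p Gc := (IsPGroup.of_card hP').toSylow hidx
    obtain ⟨e, he⟩ := hxo
    have hz : IsPGroup p (Subgroup.zpowers (⟨x, hx⟩ : Gc)) := IsPGroup.of_card (n := e) (by
      rw [Nat.card_zpowers, Subgroup.orderOf_mk, he])
    obtain ⟨Q, hQ⟩ := hz.exists_le_sylow
    obtain ⟨z, hzQ⟩ := MulAction.exists_smul_eq Gc Q S
    refine ⟨z.1, z.2, ?_⟩
    have h1 : MulAut.conj z ⟨x, hx⟩ ∈ MulAut.conj z • (Q : Subgroup Gc) :=
      Subgroup.smul_mem_pointwise_smul _ (MulAut.conj z) _ (hQ (Subgroup.mem_zpowers _))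
    rw [← Sylow.coe_subgroup_smul, hzQ] at h1
    exact h1
  intro g hg
  have hdvd : orderOf g ∣ 2 ^ 12 * 3 ^ 4 * 7 ^ 2 * 13 := by
    rw [← hcard, ← Subgroup.orderOf_mk g hg]
    exact orderOf_dvd_natCard _
  have hn0 : 0 < orderOf g := Nat.pos_of_dvd_of_pos hdvd (by norm_num)
  by_cases h : ∃ p, p.Prime ∧ p ≠ 2 ∧ p ∣ orderOf g
  · obtain ⟨p, hp, hp2, hpn⟩ := h
    have hk : orderOf (g ^ (orderOf g / p)) = p := orderOf_pow_orderOf_div hn0.ne' hpn
    have hp3 : p = 3 ∨ p = 7 ∨ p = 13 := by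
      have hd := hpn.trans hdvd
      rcases (Nat.Prime.dvd_mul hp).1 hd with h | h
      · rcases (Nat.Prime.dvd_mul hp).1 h with h | h
        · rcases (Nat.Prime.dvd_mul hp).1 h with h | h
          · exact absurd ((Nat.prime_dvd_prime_iff_eq hp Nat.prime_two).1 (hp.dvd_of_dvd_pow h)) hp2
          · exact Or.inl ((Nat.prime_dvd_prime_iff_eq hp Nat.prime_three).1 (hp.dvd_of_dvd_pow h))
        · exact Or.inr (Or.inl ((Nat.prime_dvd_prime_iff_eq hp (by norm_num)).1 (hp.dvd_of_dvd_pow h)))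
      · exact Or.inr (Or.inr ((Nat.prime_dvd_prime_iff_eq hp (by norm_num)).1 h))
    have run : ∀ S : SylD, S.listOK = true → S.certOK reps = true → S.p = p → ∀ a, S.size = p ^ a →
        ¬ p ^ (a + 1) ∣ 2 ^ 12 * 3 ^ 4 * 7 ^ 2 * 13 → GoodM (g : M8) := by
      intro S hl hc hSp a hsize hnd
      obtain ⟨P, hPG, hPc, hP⟩ := syl_spec S hl
      obtain ⟨z, hz, hzx⟩ := sylow p a hp hnd P hPG (hPc.trans hsize) _ (pow_mem hg (orderOf g / p))
        ⟨1, by rw [pow_one, hk]⟩
      obtain ⟨T, hT, hTr⟩ := hP _ hzx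
      refine good_of_conj z g (good_of_syl S hc hT hTr ?_ (hSp ▸ hp.one_lt)
        (mul_mem (mul_mem hz hg) (inv_mem hz)) (k := orderOf g / p) conj_pow)
      rw [hSp]
      exact (orderOf_injective (MulAut.conj z).toMonoidHom (MulAut.conj z).injective _).trans hk
    rcases hp3 with rfl | rfl | rfl
    · exact run syl3 syl3_list syl3_cert rfl 4 rfl (by norm_num)
    · exact run syl7 syl7_list syl7_cert rfl 2 rfl (by norm_num)
    · exact run syl13 syl13_list syl13_cert rfl 1 rfl (by norm_num)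
  · have h2 : ∀ {d}, Nat.Prime d → d ∣ orderOf g → d = 2 := fun {d} hd hdn => by
      by_contra h2
      exact h ⟨d, hd, h2, hdn⟩
    obtain ⟨U, hUG, hUc, hUp⟩ := hU
    obtain ⟨z, hz, hzx⟩ := sylow 2 12 Nat.prime_two (by norm_num) U hUG hUc g hg
      ⟨_, Nat.eq_prime_pow_of_unique_prime_dvd hn0.ne' h2⟩
    exact good_of_conj z g (good_two (hUp hzx))

section Bridge

variable {K : Type*} [Field K] [Fintype K]

theorem exists_embedding (hK : Fintype.card K = 8) :
    ∃ f : ↥(twistedD4 K 2) →* GL8, Function.Injective f ∧ f.range = Gc ∧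
      ∃ U : Subgroup GL8, U ≤ Gc ∧ Nat.card U = 2 ^ 12 ∧ U ≤ patSub := by
  let ε : K ≃+* K8 := FiniteField.ringEquivOfCardEq (hK.trans K8.card_eq.symm)
  haveI : CharP K 2 := charP_of_injective_ringHom ε.symm.toRingHom.injective 2
  obtain ⟨nat, hnat⟩ := exists_natHom K
  let ρ : ↥(chevD4.group K) →* GL8 := (Matrix.GeneralLinearGroup.map ε.toRingHom).comp nat
  have hρ : ∀ r t, r < chevD4.nroots → ρ (H37.Twist.D4.xe r t) = rootEl r (ε t) := by
    intro r t hr
    show Matrix.GeneralLinearGroup.map ε.toRingHom (nat _) = _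
    rw [hnat r t hr]
    refine Units.ext ?_
    ext i j
    simp [Matrix.GeneralLinearGroup.map, rootEl_val, ex, rootN, toM, Matrix.one_apply,
      apply_ite ε.toRingHom]
  have hw : ∀ w : List (ℕ × K), (∀ p ∈ w, p.1 < chevD4.nroots) →
      ρ (w.map fun p => H37.Twist.D4.xe p.1 p.2).prod = wordEl (w.map fun p => (p.1, ε p.2)) := by
    intro w hw
    induction w with
    | nil => simp [wordEl]
    | cons p w ih =>
      rw [List.map_cons, List.prod_cons, map_mul, hρ _ _ (hw p List.mem_cons_self),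
        ih fun q hq => hw q (List.mem_cons_of_mem _ hq)]
      simp [wordEl]
  let f : ↥(twistedD4 K 2) →* GL8 := ρ.comp (Subgroup.inclusion H37.Twist.D4.twisted_le)
  have hword : ∀ w ∈ d4Words K 2, (∀ p ∈ w, p.1 < chevD4.nroots) ∧
      (w.map fun p => (p.1, ε p.2)) ∈ all20 := by
    rintro w (⟨t, ht, r, hr, rfl⟩ | ⟨t, rs, hrs, rfl⟩)
    · simp only [List.mem_cons, List.not_mem_nil, or_false, d4p2, d4m2] at hr
      refine ⟨?_, single_word r (by rcases hr with rfl | rfl <;> simp) (ε t) (by rw [← map_pow, ht])⟩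
      rcases hr with rfl | rfl <;> simp <;> decide
    · have hrs' : rs ∈ [posT, negT] := hrs
      refine ⟨?_, ?_⟩
      · simp only [List.mem_cons, List.not_mem_nil, or_false, posT, negT] at hrs'
        rcases hrs' with rfl | rfl <;> simp <;> decide
      · simpa [tripleW] using triple_word rs hrs' (ε t)
  have hmem : ∀ w ∈ d4Words K 2, ((w.map fun p => H37.Twist.D4.xe p.1 p.2).prod : GL chevD4.Idx K) ∈
      twistedD4 K 2 := fun w hw' => H37.Twist.D4.word_mem hw' _ rfl
  have hrange : f.range = Gc := by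
    refine le_antisymm ?_ ((Subgroup.closure_le _).2 ?_)
    · have hle : twistedD4 K 2 ≤ (Gc.comap ρ).map (chevD4.group K).subtype := by
        refine (Subgroup.closure_le _).2 ?_
        rintro x ⟨w, hw', hx⟩
        refine ⟨(w.map fun p => H37.Twist.D4.xe p.1 p.2).prod, ?_, ?_⟩
        · rw [SetLike.mem_coe, Subgroup.mem_comap, hw w (hword w hw').1]
          exact Subgroup.subset_closure (List.mem_map.2 ⟨_, (hword w hw').2, rfl⟩)
        · refine Units.ext ?_
          show (((w.map fun p => H37.Twist.D4.xe p.1 p.2).prod : ↥(chevD4.group K)) : GL chevD4.Idx K).val = _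
          rw [Subgroup.val_list_prod, List.map_map, hx, ← (H37.Twist.D4.QD K).K.coe_wU K w]
          rfl
      rintro _ ⟨x, rfl⟩
      obtain ⟨x', hx', e⟩ := hle x.2
      have : Subgroup.inclusion H37.Twist.D4.twisted_le x = x' := Subtype.ext e.symm
      show ρ _ ∈ Gc
      rw [this]
      exact hx'
    · intro g hg
      obtain ⟨w, hw', rfl⟩ := List.mem_map.1 hg
      have key : ∀ w0 ∈ d4Words K 2, w = (w0.map fun p => (p.1, ε p.2)) → wordEl w ∈ f.range := by
        intro w0 h0 e
        refine ⟨⟨_, hmem w0 h0⟩, ?_⟩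
        rw [e, ← hw w0 (hword w0 h0).1]
        rfl
      rcases word_cases w hw' with ⟨r, hr, t, ht, rfl⟩ | ⟨rs, hrs, t, rfl⟩
      · exact key [(r, ε.symm t)] (Or.inl ⟨_, by rw [← map_pow, ht], r, hr, rfl⟩) (by simp)
      · exact key [(rs.1, ε.symm t), (rs.2.1, ε.symm t ^ 2), (rs.2.2, ε.symm t ^ 2 ^ 2)]
          (Or.inr ⟨_, rs, hrs, rfl⟩) (by simp [tripleW])
  obtain ⟨φ, hφ⟩ := H37.Twist.exists_powHom (K := K) (q := 2) Nat.prime_two.isPrimePow (m := 3) (by simpa using hK)
  haveI := (H37.Twist.D4.simple (φ := φ) hφ (by simpa using hK)).1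
  have hinj : Function.Injective f := by
    rw [← MonoidHom.ker_eq_bot_iff]
    refine (IsSimpleGroup.eq_bot_or_eq_top_of_normal f.ker inferInstance).resolve_right fun h => ?_
    obtain ⟨g, hg, ho⟩ := exists_order (m := 2) (by simp)
    rw [← hrange] at hg
    obtain ⟨x, rfl⟩ := hg
    have : f x = 1 := by rw [← MonoidHom.mem_ker, h]; exact Subgroup.mem_top x
    rw [this, orderOf_one] at ho
    omega
  refine ⟨f, hinj, hrange, ((chevD4.posUnipotent K ⊓ twistedD4 K 2).subgroupOf (twistedD4 K 2)).map f, ?_, ?_, ?_⟩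
  · exact hrange ▸ Subgroup.map_le_range _ _
  · rw [Nat.card_congr ((Subgroup.equivMapOfInjective _ f hinj).symm.toEquiv),
      Nat.card_congr (Subgroup.subgroupOfEquivOfLe inf_le_right).toEquiv]
    exact H37.Twist.D4.card_U hφ (by simpa using hK)
  · have hle : chevD4.posUnipotent K ≤ (patSub.comap ρ).map (chevD4.group K).subtype := by
      refine (Subgroup.closure_le _).2 ?_
      rintro x ⟨r, t, hr, hx⟩
      refine ⟨H37.Twist.D4.xe r t, ?_, Units.ext hx.symm⟩
      rw [SetLike.mem_coe, Subgroup.mem_comap, hρ r t hr.1]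
      intro i j hij
      simp [rootEl_val, ex, rootN, toM, pos_pattern ⟨r, hr.1⟩ hr i j hij]
    rintro _ ⟨x, hx, rfl⟩
    obtain ⟨x', hx', e⟩ := hle (Subgroup.mem_subgroupOf.1 hx).1
    have : Subgroup.inclusion H37.Twist.D4.twisted_le x = x' := Subtype.ext e.symm
    show ρ _ ∈ patSub
    rw [this]
    exact hx'

/-- Matrices acting on tuples of vectors. -/
def actHom (N : ℕ) : Gc →* MulAut (Multiplicative (Fin (N + 1) → V)) where
  toFun g :=
    { toFun := fun x => Multiplicative.ofAdd fun i => ((g : GL8) : M8) *ᵥ x.toAdd i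
      invFun := fun x => Multiplicative.ofAdd fun i => (((g : GL8)⁻¹ : GL8) : M8) *ᵥ x.toAdd i
      left_inv := fun x => by simp [mulVec_mulVec]
      right_inv := fun x => by simp [mulVec_mulVec]
      map_mul' := fun x y => by
        refine Multiplicative.toAdd.injective ?_
        funext i
        simp [mulVec_add] }
  map_one' := by ext x i; simp
  map_mul' g h := by ext x i; simp [mulVec_mulVec]

instance (N : ℕ) : Finite (Multiplicative (Fin (N + 1) → V) ⋊[actHom N] Gc) :=
  Finite.of_equiv _ SemidirectProduct.equivProd.symm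

/-- Groups of arbitrary size with the element orders of the triality group over two. -/
theorem spectrum (hK : Fintype.card K = 8) (N : ℕ) :
    ∃ (H : Type) (_ : Group H) (_ : Fintype H), N < Fintype.card H ∧
      Set.range (orderOf : H → ℕ) = Set.range (orderOf : ↥(twistedD4 K 2) → ℕ) := by
  obtain ⟨f, hinj, hrange, hU⟩ := exists_embedding hK
  have hcard : Nat.card Gc = 2 ^ 12 * 3 ^ 4 * 7 ^ 2 * 13 := by
    rw [← hrange, ← Nat.card_congr (MonoidHom.ofInjective hinj).toEquiv]
    obtain ⟨φ, hφ⟩ := H37.Twist.exists_powHom (K := K) (q := 2) Nat.prime_two.isPrimePow (m := 3) (by simpa using hK)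
    rw [H37.Twist.D4.card_group hφ (by simpa using hK)]
    norm_num
  have hgood := gc_good hcard hU
  have hspec : Set.range (orderOf : ↥(twistedD4 K 2) → ℕ) = Set.range (orderOf : Gc → ℕ) := by
    ext n
    constructor
    · rintro ⟨x, rfl⟩
      exact ⟨⟨f x, hrange ▸ ⟨x, rfl⟩⟩, (Subgroup.orderOf_mk _ _).trans (orderOf_injective f hinj x)⟩
    · rintro ⟨⟨g, hg⟩, rfl⟩
      rw [← hrange] at hg
      obtain ⟨x, rfl⟩ := hg
      exact ⟨x, ((Subgroup.orderOf_mk _ _).trans (orderOf_injective f hinj x)).symm⟩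
  refine ⟨Multiplicative (Fin (N + 1) → V) ⋊[actHom N] Gc, inferInstance, Fintype.ofFinite _, ?_, ?_⟩
  · rw [Fintype.card_eq_nat_card, SemidirectProduct.card]
    calc N < 2 ^ N := N.lt_two_pow_self
      _ ≤ 2 ^ (N + 1) * 1 := by rw [mul_one]; exact Nat.pow_le_pow_right two_pos N.le_succ
      _ ≤ _ := by
        refine Nat.mul_le_mul ?_ Nat.card_pos
        rw [Nat.card_congr Multiplicative.toAdd, Nat.card_fun, Nat.card_fin]
        refine Nat.pow_le_pow_left ?_ _
        rw [Nat.card_eq_fintype_card]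
        exact Fintype.one_lt_card
  rw [hspec]
  refine Set.Subset.antisymm ?_ ?_
  · rintro _ ⟨x, rfl⟩
    set n := orderOf x.right
    have hpow : ∀ k, (x ^ k).right = x.right ^ k ∧ ∀ i, (x ^ k).left.toAdd i =
        (∑ j ∈ Finset.range k, ((x.right : GL8) : M8) ^ j) *ᵥ x.left.toAdd i := by
      intro k
      induction k with
      | zero => simp
      | succ k ih =>
        refine ⟨by rw [pow_succ, SemidirectProduct.mul_right, ih.1, pow_succ], fun i => ?_⟩
        rw [pow_succ, SemidirectProduct.mul_left, toAdd_mul, Pi.add_apply, ih.2, ih.1,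
          Finset.sum_range_succ, add_mulVec]
        simp [actHom]
    have hnd : n ∣ orderOf x := orderOf_map_dvd SemidirectProduct.rightHom x
    have hxn : x ^ n = SemidirectProduct.inl (x ^ n).left := by
      refine SemidirectProduct.ext rfl ?_
      rw [(hpow n).1, pow_orderOf_eq_one]
      rfl
    by_cases hz : (x ^ n).left = 1
    · refine ⟨x.right, Nat.dvd_antisymm hnd (orderOf_dvd_of_pow_eq_one ?_)⟩
      rw [hxn, hz, map_one]
    have hsq : x ^ (n * 2) = 1 := by
      rw [pow_mul, hxn, ← map_pow]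
      refine (congrArg _ ?_).trans (map_one _)
      refine Multiplicative.toAdd.injective ?_
      rw [toAdd_pow, toAdd_one, two_nsmul]
      funext i j
      exact CharTwo.add_self_eq_zero _
    have hord : orderOf x = 2 * n := by
      obtain ⟨c, hc⟩ := hnd
      have hd := orderOf_dvd_of_pow_eq_one hsq
      rw [hc] at hd
      rcases (Nat.dvd_prime Nat.prime_two).1 (Nat.dvd_of_mul_dvd_mul_left (orderOf_pos _) hd) with rfl | rfl
      · refine absurd ?_ hz
        rw [show n = orderOf x by omega, pow_orderOf_eq_one]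
        rfl
      · omega
    rcases hgood _ x.right.2 with h | h
    · obtain ⟨g, hg, ho⟩ := exists_order (m := 2 * n) (by
        rw [orderOf_units, Subgroup.orderOf_coe] at h
        simp only [List.mem_cons, List.not_mem_nil, or_false] at h ⊢
        omega)
      exact ⟨⟨g, hg⟩, by rw [Subgroup.orderOf_mk, ho, hord]⟩
    · refine absurd ?_ hz
      refine Multiplicative.toAdd.injective ?_
      funext i
      have hn : orderOf ((x.right : GL8) : M8) = n := by rw [orderOf_units, Subgroup.orderOf_coe]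
      rw [(hpow n).2, ← hn, h, zero_mulVec]
      rfl
  · rintro _ ⟨g, rfl⟩
    exact ⟨SemidirectProduct.inr g, orderOf_injective _ SemidirectProduct.inr_injective g⟩

end Bridge

end Cfsg.Agent.H90.D4Two
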