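import Mathlib
import Cfsg.Prelude.Def_Steinberg
import Cfsg.Prelude.Def_ChevD4
import Cfsg.Agent.H38.St.Groups
import Cfsg.Agent.H37.Twist.D4Basic

/-!
The eight-dimensional module of the Chevalley group of type `D₄` in characteristic two.
-/

set_option autoImplicit false
set_option maxRecDepth 20000

namespace Cfsg.Agent.H90.D4Two

open Cfsg.Lie

section Algebra

variable {R F : Type*} [Ring R] [Field F] [CharP F 2] [Algebra F R]


/-- `1 + tA` for a nilpotent `A`. -/
def ex (A : R) (t : F) : R := 1 + t • A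

theorem ex_mul_ex {A : R} (hA : A * A = 0) (t u : F) : ex A t * ex A u = ex A (t + u) := by
  simp [ex, mul_add, add_mul, hA, add_smul]
  abel

theorem ex_comm {A B C : R} (hA : A * A = 0) (hB : B * B = 0) (hABA : A * B * A = 0)
    (hBAB : B * A * B = 0) (hC : A * B + B * A = C) (t u : F) :
    ex B u * ex A t * ex B u * ex A t = ex C (t * u) := by
  have h1 : B * (A * (B * A)) = 0 := by rw [← mul_assoc, ← mul_assoc, hBAB, zero_mul]
  have h2 : A * (B * A) = 0 := by rw [← mul_assoc, hABA]
  have h3 : B * (A * B) = 0 := by rw [← mul_assoc, hBAB]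
  have hA' : ∀ x, A * (A * x) = 0 := fun x => by rw [← mul_assoc, hA, zero_mul]
  have hB' : ∀ x, B * (B * x) = 0 := fun x => by rw [← mul_assoc, hB, zero_mul]
  subst hC
  simp only [ex, mul_add, add_mul, one_mul, mul_one, smul_mul_assoc, mul_smul_comm, smul_smul,
    mul_assoc, h1, h2, h3, hA, hB, hA', hB', mul_zero, smul_zero, add_zero, zero_add, smul_add]
  (match_scalars <;> (try ring_nf) <;> (try simp [CharTwo.two_eq_zero, CharTwo.ofNat_eq_mod]))

/-- `n(t)`. -/
noncomputable def nEl (A B : R) (t : F) : R := ex A t * ex B t⁻¹ * ex A t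

theorem nEl_eq {A B : R} (hA : A * A = 0) (hB : B * B = 0) (hABA : A * B * A = A) {t : F} (ht : t ≠ 0) :
    nEl A B t = (1 + (A * B + B * A)) + (t • A + t⁻¹ • B) := by
  simp only [nEl, ex, mul_add, add_mul, one_mul, mul_one, smul_mul_assoc, mul_smul_comm, smul_smul,
    hA, hB, hABA, smul_zero, add_zero, zero_add, smul_add, mul_inv_cancel₀ ht, inv_mul_cancel₀ ht,
    one_smul]
  (match_scalars <;> (try ring_nf) <;> (try simp [CharTwo.two_eq_zero, CharTwo.ofNat_eq_mod]))

/-- `h(t)`. -/
noncomputable def hEl (A B : R) (t : F) : R := nEl A B t * nEl A B (1 : F)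

theorem hEl_eq {A B : R} (hA : A * A = 0) (hB : B * B = 0) (hABA : A * B * A = A) (hBAB : B * A * B = B)
    {t : F} (ht : t ≠ 0) :
    hEl A B t = (1 + (A * B + B * A)) + (t • (A * B) + t⁻¹ • (B * A)) := by
  have e1 : A * (B * A) = A := by rw [← mul_assoc, hABA]
  have e2 : B * (A * B) = B := by rw [← mul_assoc, hBAB]
  have hA' : ∀ x, A * (A * x) = 0 := fun x => by rw [← mul_assoc, hA, zero_mul]
  have hB' : ∀ x, B * (B * x) = 0 := fun x => by rw [← mul_assoc, hB, zero_mul]
  have e1' : ∀ x, A * (B * (A * x)) = A * x := fun x => by rw [← mul_assoc, ← mul_assoc, hABA]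
  have e2' : ∀ x, B * (A * (B * x)) = B * x := fun x => by rw [← mul_assoc, ← mul_assoc, hBAB]
  rw [hEl, nEl_eq hA hB hABA ht, nEl_eq hA hB hABA (one_ne_zero' F)]
  simp only [inv_one, one_smul, mul_add, add_mul, one_mul, mul_one, smul_mul_assoc, mul_smul_comm,
    mul_assoc, e1, e2, e1', e2', hA, hB, hA', hB', mul_zero, smul_zero, add_zero, zero_add, smul_add]
  (match_scalars <;> (try ring_nf) <;> (try simp [CharTwo.two_eq_zero, CharTwo.ofNat_eq_mod]))

theorem hEl_mul {A B : R} (hA : A * A = 0) (hB : B * B = 0) (hABA : A * B * A = A) (hBAB : B * A * B = B)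
    {t u : F} (ht : t ≠ 0) (hu : u ≠ 0) : hEl A B t * hEl A B u = hEl A B (t * u) := by
  have e1 : A * (B * A) = A := by rw [← mul_assoc, hABA]
  have e2 : B * (A * B) = B := by rw [← mul_assoc, hBAB]
  have hA' : ∀ x, A * (A * x) = 0 := fun x => by rw [← mul_assoc, hA, zero_mul]
  have hB' : ∀ x, B * (B * x) = 0 := fun x => by rw [← mul_assoc, hB, zero_mul]
  have e1' : ∀ x, A * (B * (A * x)) = A * x := fun x => by rw [← mul_assoc, ← mul_assoc, hABA]
  have e2' : ∀ x, B * (A * (B * x)) = B * x := fun x => by rw [← mul_assoc, ← mul_assoc, hBAB]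
  rw [hEl_eq hA hB hABA hBAB ht, hEl_eq hA hB hABA hBAB hu, hEl_eq hA hB hABA hBAB (mul_ne_zero ht hu)]
  simp only [mul_add, add_mul, one_mul, mul_one, smul_mul_assoc, mul_smul_comm, smul_smul,
    mul_assoc, e1, e2, e1', e2', hA, hB, hA', hB', mul_zero, smul_zero, add_zero, zero_add, smul_add]
  (match_scalars <;> (try ring_nf) <;> (try simp [CharTwo.two_eq_zero, CharTwo.ofNat_eq_mod]))

end Algebra

/-- A matrix given by the positions of its entries, with multiplicity. -/
abbrev Pos := List (Fin 8 × Fin 8)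

/-- Product of matrix units. -/
def mulP (l m : Pos) : Pos :=
  l.flatMap fun p => (m.filter fun q => p.2 = q.1).map fun q => (p.1, q.2)

/-- Whether every entry occurs evenly. -/
def evenP (l : Pos) : Bool := l.all fun p => l.count p % 2 == 0

/-- Equality modulo two. -/
def eqP (l m : Pos) : Bool := evenP (l ++ m)

/-- Positions of the two nonzero entries of each root matrix. -/
def rootPos : List Pos :=
  [[(6, 0), (7, 1)],
   [(5, 0), (7, 2)],
   [(3, 0), (7, 4)],
   [(4, 0), (7, 3)],
   [(2, 0), (7, 5)],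
   [(1, 0), (7, 6)],
   [(5, 1), (6, 2)],
   [(3, 1), (6, 4)],
   [(4, 1), (6, 3)],
   [(2, 1), (6, 5)],
   [(3, 2), (5, 4)],
   [(4, 2), (5, 3)],
   [(2, 4), (3, 5)],
   [(2, 3), (4, 5)],
   [(1, 2), (5, 6)],
   [(1, 4), (3, 6)],
   [(1, 3), (4, 6)],
   [(1, 5), (2, 6)],
   [(0, 1), (6, 7)],
   [(0, 2), (5, 7)],
   [(0, 4), (3, 7)],
   [(0, 3), (4, 7)],
   [(0, 5), (2, 7)],
   [(0, 6), (1, 7)]]

/-- The positions for one root. -/
def pos (r : ℕ) : Pos := rootPos[r]?.getD []

theorem sq_zero : ((List.range 24).all fun r => evenP (mulP (pos r) (pos r))) = true := by decide +kernel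

theorem neg_facts : ((List.range 24).all fun r => decide (chevD4.neg r < 24) &&
    eqP (mulP (mulP (pos r) (pos (chevD4.neg r))) (pos r)) (pos r) &&
    eqP (mulP (mulP (pos (chevD4.neg r)) (pos r)) (pos (chevD4.neg r))) (pos (chevD4.neg r))) = true := by
  decide +kernel

theorem comm_facts : ((List.range 24).all fun r => (List.range 24).all fun s =>
    decide (s = r) || decide (s = chevD4.neg r) ||
    (evenP (mulP (mulP (pos r) (pos s)) (pos r)) && evenP (mulP (mulP (pos s) (pos r)) (pos s)) &&
      match chevD4.commTerms r s with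
      | [] => evenP (mulP (pos r) (pos s) ++ mulP (pos s) (pos r))
      | [(k, c, 1, 1)] => decide (k < 24) && decide (c = 1 ∨ c = -1) &&
          eqP (mulP (pos r) (pos s) ++ mulP (pos s) (pos r)) (pos k)
      | _ => false)) = true := by
  decide +kernel

theorem form_facts : ((List.range 24).all fun r =>
    let T : Pos := (pos r).map fun p => (p.2, p.1)
    let J : Pos := (List.finRange 8).map fun i => (i, i.rev)
    evenP (mulP T J ++ mulP J (pos r)) && evenP (mulP (mulP T J) (pos r))) = true := by decide +kernel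

theorem row_facts : ∀ j : Fin 8, j ≠ 0 → ∃ r : Fin 24, ∃ i : Fin 8,
    (∀ l, ((pos r).count (i, l)) = if l = j then 1 else 0) ∧ ∀ l, (pos r).count (l, 0) = 0 := by decide +kernel

theorem col_facts : ∀ j : Fin 8, j ≠ 0 → j ≠ 7 → ∃ r : Fin 24,
    ∀ l, (pos r).count (l, 0) = if l = j then 1 else 0 := by decide +kernel

theorem col_last : ∃ r : Fin 24, ∀ l, (pos r).count (l, 1) = if l = 7 then 1 else 0 := by decide +kernel

theorem all_lt {P : ℕ → Bool} {n r : ℕ} (h : (List.range n).all P = true) (hr : r < n) : P r = true :=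
  List.all_eq_true.1 h r (List.mem_range.2 hr)

variable {F : Type*} [Field F]

variable (F) in
/-- The matrix of a list of positions. -/
def toM (l : Pos) : Matrix (Fin 8) (Fin 8) F := fun i j => (l.count (i, j) : F)

theorem toM_nil : toM F [] = 0 := by ext; simp [toM]

theorem toM_append (l m : Pos) : toM F (l ++ m) = toM F l + toM F m := by
  ext; simp [toM, List.count_append]

theorem toM_cons (p : Fin 8 × Fin 8) (l : Pos) : toM F (p :: l) = Matrix.single p.1 p.2 1 + toM F l := by
  ext i j
  obtain ⟨a, b⟩ := p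
  by_cases h : a = i ∧ b = j
  · obtain ⟨rfl, rfl⟩ := h
    simp [toM, add_comm]
  · simp [toM, List.count_cons, h, Prod.ext_iff, Matrix.single]

theorem single_mul_toM (p : Fin 8 × Fin 8) : ∀ m : Pos,
    Matrix.single p.1 p.2 (1 : F) * toM F m = toM F ((m.filter fun q => p.2 = q.1).map fun q => (p.1, q.2)) := by
  intro m
  induction m with
  | nil => simp [toM_nil]
  | cons q m ih =>
    by_cases h : p.2 = q.1
    · rw [toM_cons, mul_add, ih, List.filter_cons_of_pos (by simpa using h), List.map_cons, toM_cons, h,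
        Matrix.single_mul_single_same, one_mul]
    · rw [toM_cons, mul_add, ih, List.filter_cons_of_neg (by simpa using h),
        Matrix.single_mul_single_of_ne (h := h), zero_add]

theorem toM_mulP (l m : Pos) : toM F (mulP l m) = toM F l * toM F m := by
  induction l with
  | nil => simp [mulP, toM_nil]
  | cons p l ih =>
    rw [show mulP (p :: l) m = ((m.filter fun q => p.2 = q.1).map fun q => (p.1, q.2)) ++ mulP l m from rfl,
      toM_append, ih, toM_cons, add_mul, single_mul_toM]

theorem toM_transpose (l : Pos) : (toM F l).transpose = toM F (l.map fun p => (p.2, p.1)) := by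
  induction l with
  | nil => simp [toM_nil]
  | cons p l ih => rw [List.map_cons, toM_cons, toM_cons, Matrix.transpose_add, ih, Matrix.transpose_single]

variable [CharP F 2]

theorem toM_even {l : Pos} (h : evenP l = true) : toM F l = 0 := by
  ext i j
  show ((l.count (i, j) : ℕ) : F) = 0
  rw [CharP.cast_eq_zero_iff F 2]
  by_cases hm : (i, j) ∈ l
  · have := List.all_eq_true.1 h _ hm
    simp only [beq_iff_eq] at this
    omega
  · rw [List.count_eq_zero_of_not_mem hm]; exact dvd_zero 2

theorem toM_eqP {l m : Pos} (h : eqP l m = true) : toM F l = toM F m := by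
  have e := toM_even (F := F) h
  rw [toM_append] at e
  rw [eq_neg_of_add_eq_zero_left e]
  ext i j
  simp [CharTwo.neg_eq]

variable (F) in
/-- A root matrix. -/
abbrev rootN (r : ℕ) : Matrix (Fin 8) (Fin 8) F := toM F (pos r)

theorem rootN_sq (r : ℕ) : rootN F r * rootN F r = 0 := by
  rw [← toM_mulP]
  refine toM_even ?_
  by_cases hr : r < 24
  · exact all_lt sq_zero hr
  · have : pos r = [] := by
      rw [pos, List.getElem?_eq_none (by simp [rootPos]; omega)]
      rfl
    rw [this]; rfl

/-- A root element as an invertible matrix. -/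
def rootEl (r : ℕ) (t : F) : GL (Fin 8) F where
  val := ex (rootN F r) t
  inv := ex (rootN F r) t
  val_inv := by rw [ex_mul_ex (rootN_sq r), CharTwo.add_self_eq_zero]; simp [ex]
  inv_val := by rw [ex_mul_ex (rootN_sq r), CharTwo.add_self_eq_zero]; simp [ex]

theorem rootEl_val (r : ℕ) (t : F) : ((rootEl r t : GL (Fin 8) F) : Matrix (Fin 8) (Fin 8) F) = ex (rootN F r) t :=
  rfl

theorem rootEl_inv (r : ℕ) (t : F) : (rootEl r t)⁻¹ = rootEl r t := Units.ext rfl

theorem rootEl_mul (r : ℕ) (t u : F) : rootEl r t * rootEl r u = rootEl r (t + u) :=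
  Units.ext (ex_mul_ex (rootN_sq r) t u)

/-- The matrix of a word. -/
def wordEl (l : List (ℕ × F)) : GL (Fin 8) F := (l.map fun p => rootEl p.1 p.2).prod

theorem lift_word8 (l : List (ℕ × F)) (hl : ∀ p ∈ l, p.1 < chevD4.nroots) :
    FreeGroup.lift (fun p : Fin chevD4.nroots × F => rootEl p.1 p.2) (chevD4.stWord l) = wordEl l := by
  induction l with
  | nil => simp [ChevalleyDatum.stWord, wordEl]
  | cons p l ih =>
    have hp : p.1 < chevD4.nroots := hl p List.mem_cons_self
    simp only [ChevalleyDatum.stWord, List.map_cons, List.prod_cons, map_mul] at ih ⊢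
    rw [ih fun q hq => hl q (List.mem_cons_of_mem _ hq)]
    simp [ChevalleyDatum.stX, hp, wordEl]

theorem wordEl_hWord (r : ℕ) (t : F) :
    ((wordEl (chevD4.hWord r t) : GL (Fin 8) F) : Matrix (Fin 8) (Fin 8) F) =
      hEl (rootN F r) (rootN F (chevD4.neg r)) t := by
  simp [wordEl, ChevalleyDatum.hWord, ChevalleyDatum.nWord, rootEl_val, hEl, nEl, CharTwo.neg_eq, mul_assoc]

theorem natRels : ∀ g ∈ chevD4.steinbergRels F,
    FreeGroup.lift (fun p : Fin chevD4.nroots × F => rootEl p.1 p.2) g = 1 := by
  have hn : chevD4.nroots = 24 := rfl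
  have hX : ∀ r t, r < chevD4.nroots → FreeGroup.lift (fun p : Fin chevD4.nroots × F => rootEl p.1 p.2)
      (chevD4.stX r t) = rootEl r t := fun r t hr => by simp [ChevalleyDatum.stX, hr]
  rintro g ((⟨r, t, u, hr, rfl⟩ | ⟨r, s, t, u, hr, hs, h1, h2, rfl⟩) | ⟨r, t, u, hr, ht, hu, rfl⟩)
  · rw [map_mul, map_mul, map_inv, hX r t hr, hX r u hr, hX r _ hr, mul_inv_eq_one, rootEl_mul]
  · have hc := all_lt (all_lt comm_facts (hn ▸ hr)) (hn ▸ hs)
    simp only [Bool.or_eq_true, decide_eq_true_iff, Bool.and_eq_true] at hc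
    obtain ⟨⟨ha, hb⟩, hc⟩ := hc.resolve_left fun h => h.elim h1 h2
    have ha' := toM_even (F := F) ha
    have hb' := toM_even (F := F) hb
    rw [toM_mulP, toM_mulP] at ha' hb'
    have key : ∀ C, rootN F r * rootN F s + rootN F s * rootN F r = C →
        ((rootEl s u * rootEl r t * rootEl s u * rootEl r t : GL (Fin 8) F) : Matrix (Fin 8) (Fin 8) F) =
          ex C (t * u) := fun C hC => by
      simp only [Units.val_mul, rootEl_val]
      exact ex_comm (rootN_sq r) (rootN_sq s) ha' hb' hC t u
    split at hc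
    · rename_i e
      rw [map_mul, map_mul, map_mul, map_mul, map_inv, map_inv, map_inv, hX r t hr, hX s u hs,
        lift_word8 _ (by simp [ChevalleyDatum.commWord, e]), rootEl_inv, rootEl_inv, mul_inv_eq_one]
      refine Units.ext ?_
      have h0' := toM_even (F := F) hc
      rw [toM_append, toM_mulP, toM_mulP] at h0'
      rw [key 0 h0']
      simp [ChevalleyDatum.commWord, e, wordEl, ex]
    · rename_i k c e
      simp only [Bool.and_eq_true, decide_eq_true_iff] at hc
      obtain ⟨⟨hk, hcm⟩, hk'⟩ := hc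
      rw [map_mul, map_mul, map_mul, map_mul, map_inv, map_inv, map_inv, hX r t hr, hX s u hs,
        lift_word8 _ (by simpa [ChevalleyDatum.commWord, e, hn] using hk),
        rootEl_inv, rootEl_inv, mul_inv_eq_one]
      refine Units.ext ?_
      have hk'' := toM_eqP (F := F) hk'
      rw [toM_append, toM_mulP, toM_mulP] at hk''
      rw [key _ hk'']
      have hc1 : (c : F) = 1 := by
        rcases hcm with rfl | rfl
        · simp
        · simp [CharTwo.neg_eq]
      simp [ChevalleyDatum.commWord, e, wordEl, hc1, rootEl_val, CharTwo.neg_eq]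
    · simp at hc
  · have hneg : chevD4.neg r < chevD4.nroots := hn ▸ (of_decide_eq_true (Bool.and_eq_true_iff.1 (Bool.and_eq_true_iff.1 (all_lt neg_facts (hn ▸ hr))).1).1)
    have hl : ∀ t : F, ∀ p ∈ chevD4.hWord r t, p.1 < chevD4.nroots := fun t => by
      simp [ChevalleyDatum.hWord, ChevalleyDatum.nWord, hr, hneg]
    rw [map_mul, map_mul, map_inv, ChevalleyDatum.stH, ChevalleyDatum.stH, ChevalleyDatum.stH,
      lift_word8 _ (hl _), lift_word8 _ (hl _), lift_word8 _ (hl _), mul_inv_eq_one]
    refine Units.ext ?_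
    have hf := all_lt neg_facts (hn ▸ hr)
    simp only [Bool.and_eq_true] at hf
    have ha' := toM_eqP (F := F) hf.1.2
    have hb' := toM_eqP (F := F) hf.2
    rw [toM_mulP, toM_mulP] at ha' hb'
    rw [Units.val_mul, wordEl_hWord, wordEl_hWord, wordEl_hWord]
    exact hEl_mul (rootN_sq r) (rootN_sq _) ha' hb' ht hu

variable (F) in
/-- The module of the presented group. -/
def natSt : chevD4.SteinbergGroup F →* GL (Fin 8) F := PresentedGroup.toGroup natRels

theorem natSt_gen {r : ℕ} (hr : r < chevD4.nroots) (t : F) : natSt F (chevD4.stGen F r t) = rootEl r t := by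
  simp only [natSt, ChevalleyDatum.stGen, ChevalleyDatum.stX, dif_pos hr]
  exact PresentedGroup.toGroup.of _

theorem rootN_apply (r : ℕ) (i j : Fin 8) : rootN F r i j = ((pos r).count (i, j) : F) := rfl

/-- A matrix commuting with all root matrices is scalar. -/
theorem scalar_of_comm (z : Matrix (Fin 8) (Fin 8) F)
    (h : ∀ r : Fin 24, z * rootN F r = rootN F r * z) : z = z 0 0 • (1 : Matrix (Fin 8) (Fin 8) F) := by
  have hz : ∀ j : Fin 8, j ≠ 0 → z j 0 = 0 := by
    intro j hj
    obtain ⟨r, i, hrow, hcol⟩ := row_facts j hj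
    have hrow' : ∀ l, rootN F r i l = if l = j then 1 else 0 := fun l => by
      rw [rootN_apply, hrow l]; split <;> simp
    have hcol' : ∀ l, rootN F r l 0 = 0 := fun l => by rw [rootN_apply, hcol l, Nat.cast_zero]
    have e := congrFun (congrFun (h r) i) 0
    simpa [Matrix.mul_apply, hrow', hcol', eq_comm] using e
  have h0 : ∀ l, z l 0 = if l = 0 then z 0 0 else 0 := fun l => by
    by_cases hl : l = 0
    · simp [hl]
    · simp [hl, hz l hl]
  have step : ∀ (r : Fin 24) (i j : Fin 8), (∀ l, (pos r).count (l, i) = if l = j then 1 else 0) →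
      (∀ l, z l i = if l = i then z 0 0 else 0) → ∀ l, z l j = if l = j then z 0 0 else 0 := by
    intro r i j hcol hi l
    have hcol' : ∀ l, rootN F r l i = if l = j then 1 else 0 := fun l => by
      rw [rootN_apply, hcol l]; split <;> simp
    have e := congrFun (congrFun (h r) l) i
    simpa [Matrix.mul_apply, hcol', hi, eq_comm] using e
  have hall : ∀ j l, z l j = if l = j then z 0 0 else 0 := by
    intro j
    by_cases hj : j = 0
    · subst hj; exact h0
    by_cases hj7 : j = 7
    · subst hj7
      obtain ⟨r, hr⟩ := col_last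
      obtain ⟨r1, hr1⟩ := col_facts 1 (by decide) (by decide)
      exact step r 1 7 hr (step r1 0 1 hr1 h0)
    · obtain ⟨r, hr⟩ := col_facts j hj hj7
      exact step r 0 j hr h0
  ext l j
  rw [hall j l, Matrix.smul_apply, Matrix.one_apply]
  split <;> simp

variable (F) in
/-- The form over the field. -/
def formF : Matrix (Fin 8) (Fin 8) F := toM F ((List.finRange 8).map fun i => (i, i.rev))

theorem rootEl_form (r : Fin 24) (t : F) :
    (ex (rootN F r) t).transpose * formF F * ex (rootN F r) t = formF F := by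
  have h := all_lt form_facts r.2
  simp only [Bool.and_eq_true] at h
  have h1 := toM_even (F := F) h.1
  have h2 := toM_even (F := F) h.2
  rw [toM_append, toM_mulP, toM_mulP] at h1
  rw [toM_mulP, toM_mulP] at h2
  rw [← toM_transpose] at h1 h2
  simp only [ex, Matrix.transpose_add, Matrix.transpose_one, Matrix.transpose_smul, formF, add_mul,
    mul_add, one_mul, mul_one, smul_mul_assoc, mul_smul_comm, h2, smul_zero, add_zero]
  rw [add_assoc, ← smul_add]
  erw [h1]
  rw [smul_zero, add_zero]

theorem natSt_form (g : chevD4.SteinbergGroup F) :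
    ((natSt F g : GL (Fin 8) F) : Matrix (Fin 8) (Fin 8) F).transpose * formF F *
      ((natSt F g : GL (Fin 8) F) : Matrix (Fin 8) (Fin 8) F) = formF F := by
  let P : Subgroup (GL (Fin 8) F) :=
    { carrier := {a | (a : Matrix (Fin 8) (Fin 8) F).transpose * formF F * (a : Matrix (Fin 8) (Fin 8) F) = formF F}
      mul_mem' := fun {a b} ha hb => by
        show ((a * b : GL (Fin 8) F) : Matrix (Fin 8) (Fin 8) F).transpose * formF F * _ = _
        rw [Units.val_mul, Matrix.transpose_mul]
        calc _ = (b : Matrix (Fin 8) (Fin 8) F).transpose *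
              ((a : Matrix (Fin 8) (Fin 8) F).transpose * formF F * (a : Matrix (Fin 8) (Fin 8) F)) *
              (b : Matrix (Fin 8) (Fin 8) F) := by simp only [mul_assoc]
          _ = _ := by rw [show (a : Matrix (Fin 8) (Fin 8) F).transpose * formF F * _ = formF F from ha]; exact hb
      one_mem' := by simp
      inv_mem' := fun {a} ha => by
        have ha' : (a : Matrix (Fin 8) (Fin 8) F).transpose * formF F * (a : Matrix (Fin 8) (Fin 8) F) = formF F := ha
        show ((a⁻¹ : GL (Fin 8) F) : Matrix (Fin 8) (Fin 8) F).transpose * formF F * _ = _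
        conv_lhs => rw [← ha']
        simp only [← mul_assoc, ← Matrix.transpose_mul, Units.mul_inv, Matrix.transpose_one, one_mul]
        rw [mul_assoc, Units.mul_inv, mul_one] }
  show g ∈ P.comap (natSt F)
  rw [Agent.H38.St.st_gen (P.comap (natSt F)) (fun r hr t => ?_)]
  · exact Subgroup.mem_top _
  · show natSt F (chevD4.stGen F r t) ∈ P
    rw [natSt_gen hr t]
    exact rootEl_form ⟨r, hr⟩ t

theorem natSt_center {g : chevD4.SteinbergGroup F} (hg : g ∈ Subgroup.center (chevD4.SteinbergGroup F)) :
    natSt F g = 1 := by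
  set z := ((natSt F g : GL (Fin 8) F) : Matrix (Fin 8) (Fin 8) F) with hz
  have hcomm : ∀ r : Fin 24, z * rootN F r = rootN F r * z := by
    intro r
    have e := congrArg (fun a : GL (Fin 8) F => (a : Matrix (Fin 8) (Fin 8) F))
      (congrArg (natSt F) (Subgroup.mem_center_iff.1 hg (chevD4.stGen F r 1)))
    simp only [map_mul, natSt_gen r.2, Units.val_mul, rootEl_val, ex, one_smul, ← hz, add_mul, mul_add,
      one_mul, mul_one] at e
    exact (add_left_cancel e).symm
  have hs := scalar_of_comm z hcomm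
  have hf := congrFun (congrFun (natSt_form g) 0) 7
  rw [← hz, hs] at hf
  have hc : List.count ((0 : Fin 8), (7 : Fin 8)) ((List.finRange 8).map fun i => (i, i.rev)) = 1 := by decide
  simp [formF, toM, Matrix.transpose_smul, hc] at hf
  have h1 : z 0 0 = 1 := by
    have : (z 0 0 - 1) * (z 0 0 - 1) = 0 := by
      rw [CharTwo.sub_eq_add]; ring_nf; rw [show (z 0 0) ^ 2 = 1 from by rw [pow_two]; exact hf]
      simp [CharTwo.two_eq_zero, CharTwo.add_self_eq_zero]
    exact sub_eq_zero.1 (mul_self_eq_zero.1 this)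
  refine Units.ext ?_
  rw [← hz, hs, h1, one_smul]; rfl

variable (F) in
/-- The module of the Chevalley group. -/
theorem exists_natHom : ∃ f : ↥(chevD4.group F) →* GL (Fin 8) F, ∀ r t, r < chevD4.nroots →
    f (H37.Twist.D4.xe r t) = rootEl r t := by
  obtain ⟨θ, hsurj, hker, hθ⟩ := Agent.H38.St.steinberg (D := chevD4) (F := F) (H37.Chev.dataD4 F)
    (Agent.H38.St.relOK_of_check _ H37.Chev.typeD4.M (w := Agent.Chevalley.D4.tab.w) rfl (by decide +kernel))
    (Agent.H38.St.adj_of_check (by decide +kernel))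
  have hle : θ.ker ≤ (natSt F).ker := fun g hg => natSt_center (hker ▸ hg)
  refine ⟨θ.liftOfSurjective hsurj ⟨natSt F, hle⟩, fun r t hr => ?_⟩
  have e : H37.Twist.D4.xe r t = θ (chevD4.stGen F r t) := by
    refine Subtype.ext (Units.ext ?_)
    rw [hθ r t hr]
    rfl
  rw [e, MonoidHom.liftOfRightInverse_comp_apply, natSt_gen hr]

end Cfsg.Agent.H90.D4Two
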