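import Cfsg.Agent.H90.D4Two.Cent
import Cfsg.Agent.H90.D4Two.Natural
import Cfsg.Agent.H90.D4Two.Tables

/-!
Words in the generators, and listed subgroups of prime power order with their certificates.
-/

set_option autoImplicit false
set_option maxRecDepth 100000

namespace Cfsg.Agent.H90.D4Two

open K8

/-- A word of three root elements. -/
def tripleW (rs : ℕ × ℕ × ℕ) (t : K8) : List (ℕ × K8) :=
  [(rs.1, t), (rs.2.1, t ^ 2), (rs.2.2, t ^ (2 ^ 2))]

/-- The positive and negative triples of roots. -/
def posT : ℕ × ℕ × ℕ := (18, 13, 12)

/-- The negative triple. -/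
def negT : ℕ × ℕ × ℕ := (5, 10, 11)

/-- The twenty words generating the twisted group. -/
def all20 : List (List (ℕ × K8)) :=
  [[(14, 1)], [(9, 1)]] ++ ([1, 2, 3, 4, 5, 6, 7].map fun a => tripleW posT (ofN a)) ++
    ([1, 2, 3, 4, 5, 6, 7].map fun a => tripleW negT (ofN a)) ++
    [[(14, 0)], [(9, 0)], tripleW posT 0, tripleW negT 0]

/-- The table of a word of root elements. -/
def wordC (w : List (ℕ × K8)) : ℕ :=
  (w.map fun p => mkT (ex (rootN K8 p.1) p.2)).foldr mulC oneC

/-- The table of a word in the generators. -/
def wordT (w : List ℕ) : ℕ := (w.map fun k => genC.getD k oneC).foldr mulC oneC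

/-- The certificate for one element of a listed subgroup. -/
inductive Cert where
  | notp
  | free (L : ℕ)
  | conj (r w wi : ℕ)

/-- The check of a certificate; `reps` gives the order and table of each representative. -/
def Cert.ok (reps : List (ℕ × ℕ)) (p y : ℕ) : Cert → Bool
  | .notp => !(units.all fun u => powApp y p u == u) || units.all fun u => app y u == u
  | .free L => linT L && units.all fun u => app L (app y u ^^^ u) == u
  | .conj r w wi =>
    linT w && linT wi && presC TMv w && decide (r < reps.length) && ((reps.getD r (0, 0)).1 == p) &&
      units.all fun u => app wi (app w u) == u && app w (app y u) == app (reps.getD r (0, 0)).2 (app w u)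

/-- A listed subgroup of prime power order. -/
structure SylD where
  /-- The prime. -/
  p : ℕ
  /-- The order. -/
  size : ℕ
  /-- The generating words. -/
  gens : List (List ℕ)
  /-- The tree of the list. -/
  steps : List (ℕ × ℕ)
  /-- The elements. -/
  elems : List ℕ
  /-- Certificates. -/
  certs : List Cert

/-- The tables of the generating words. -/
def SylD.gT (S : SylD) : List ℕ := S.gens.map wordT

/-- The list is the group generated by the words. -/
def SylD.listOK (S : SylD) : Bool :=
  S.steps.foldl (fun l st => l ++ [mulC (S.gT.getD st.1 oneC) (l.getD st.2 oneC)]) [oneC] == S.elems &&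
    (S.gT.all fun g => S.elems.all fun e => S.elems.contains (mulC g e)) &&
    S.elems.length == S.size && decide ((S.elems.map fun T => units.map (app T)).Nodup)

/-- The certificates hold. -/
def SylD.certOK (S : SylD) (reps : List (ℕ × ℕ)) : Bool :=
  S.certs.length == S.elems.length && (S.elems.zip S.certs).all fun q => q.2.ok reps S.p q.1

end Cfsg.Agent.H90.D4Two
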